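import Cfsg.Agent.R3.Defs
import Cfsg.Agent.Char.Values

/-! Class counts for linear groups (S4881). -/

set_option autoImplicit false

open Cfsg CL.Perm CL.PT CL.Fgs Finset

namespace CL.Rk3L

universe u

private theorem cc_sum {t : ℕ} {ζ : ℂ} (h : ζ ^ t = 1) :
    ∑ k ∈ range t, ζ ^ k = ((open Classical in if ζ = 1 then t else 0 : ℕ) : ℂ) := by
  split_ifs with e
  · simp [e]
  · rw [geom_sum_eq e, h, sub_self, zero_div, Nat.cast_zero]

private theorem cc_mem {t n : ℕ} (ht : t ≠ 0) {a b : Fin n → ℂ} (ha : ∀ l, a l ^ t = 1) (hb : ∀ l, b l ^ t = 1)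
    (h : ∀ k : ℕ, ∑ l, a l ^ k = ∑ l, b l ^ k) (l₀ : Fin n) : ∃ l, a l = b l₀ := by
  by_contra hne
  push Not at hne
  have h0 : b l₀ ≠ 0 := fun e => by simpa [e, ht] using hb l₀
  have key : ∀ c : Fin n → ℂ, (∀ l, c l ^ t = 1) → ∑ k ∈ range t, (∑ l, c l ^ k) / b l₀ ^ k =
      ((∑ l, (open Classical in if c l / b l₀ = 1 then t else 0) : ℕ) : ℂ) := fun c hc => by
    simp only [sum_div, ← div_pow]
    rw [sum_comm, Nat.cast_sum]
    exact sum_congr rfl fun l _ => cc_sum (by rw [div_pow, hc, hb, div_one])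
  have e := key a ha
  simp only [h] at e
  rw [key b hb, Nat.cast_inj, sum_eq_zero (s := univ) (f := fun l => open Classical in if a l / b l₀ = 1 then t else 0)
    fun l _ => if_neg fun e => hne l ((div_eq_one_iff_eq h0).1 e), sum_eq_zero_iff] at e
  have := e l₀ (mem_univ _)
  rw [if_pos (div_self h0)] at this
  exact ht this

theorem cc : CC.{u} := by
  intro G V _ _ _ _ ρ p n t T ht hd
  classical
  have := Fact.mk ht
  have := Fintype.ofFinite (ConjClasses G)
  obtain ⟨x, hx⟩ := exists_prime_orderOf_dvd_card' t hd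
  obtain ⟨χ, hχ, hf, hn⟩ := T.exists_char
  obtain ⟨n', μ, h1, h2, h3⟩ := CL.Char.isChar_exists_eigenvalues hχ x
  obtain rfl : n' = n := by rw [← hn, charDegree, h1]; simp
  rw [hx] at h2
  obtain ⟨l₀, hl⟩ : ∃ l, μ l ≠ 1 := by
    by_contra hc
    push Not at hc
    have := hf x (by rw [← pow_one x, h3, h1]; simp [hc])
    rw [this, orderOf_one] at hx
    exact ht.one_lt.ne hx
  have ho : orderOf (μ l₀) = t := orderOf_eq_prime (h2 l₀) hl
  have hcl : ∀ g h : G, IsConj g h → χ g = χ h := fun g h c => by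
    obtain ⟨a, rfl⟩ := isConj_iff.1 c
    obtain ⟨m, σ, rfl⟩ := hχ
    exact (σ.char_conj g a).symm
  have key : (Ico 1 t).card ≤ n' * (univ.erase (ConjClasses.mk (1 : G))).card := by
    refine card_le_mul_card_image_of_maps_to (f := fun i => ConjClasses.mk (x ^ i)) (fun i hi => ?_) _ fun c _ => ?_
    · refine mem_erase.2 ⟨fun e => ?_, mem_univ _⟩
      have := orderOf_dvd_of_pow_eq_one (isConj_one_left.1 (ConjClasses.mk_eq_mk_iff_isConj.1 e))
      have := Nat.le_of_dvd (mem_Ico.1 hi).1 (hx ▸ this)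
      have := (mem_Ico.1 hi).2
      omega
    · rcases (filter (fun i => ConjClasses.mk (x ^ i) = c) (Ico 1 t)).eq_empty_or_nonempty with e | ⟨i, hi⟩
      · rw [e]; exact Nat.zero_le _
      have h4 : ∀ j ∈ filter (fun i => ConjClasses.mk (x ^ i) = c) (Ico 1 t), ∃ l, μ l ^ i = μ l₀ ^ j := fun j hj =>
        cc_mem ht.ne_zero (a := fun l => μ l ^ i) (b := fun l => μ l ^ j)
          (fun l => by rw [← pow_mul, mul_comm, pow_mul, h2, one_pow])
          (fun l => by rw [← pow_mul, mul_comm, pow_mul, h2, one_pow]) (fun k => by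
            simp only [← pow_mul, ← h3]
            rw [pow_mul, pow_mul]
            exact hcl _ _ ((ConjClasses.mk_eq_mk_iff_isConj.1
              ((mem_filter.1 hi).2.trans (mem_filter.1 hj).2.symm)).pow k)) l₀
      have : Nonempty (Fin n') := ⟨l₀⟩
      choose! f hf' using h4
      refine (card_le_card_of_injOn (t := univ) f (fun _ _ => mem_univ _) fun j hj k hk e => ?_).trans (by simp)
      refine pow_injOn_Iio_orderOf (x := μ l₀) (ho ▸ (mem_Ico.1 (mem_filter.1 hj).1).2)
        (ho ▸ (mem_Ico.1 (mem_filter.1 hk).1).2) ?_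
      show μ l₀ ^ j = μ l₀ ^ k
      rw [← hf' j hj, e, hf' k hk]
  rw [Nat.card_Ico, card_erase_of_mem (mem_univ _), card_univ, ← Nat.card_eq_fintype_card] at key
  obtain ⟨k, hk⟩ : ∃ k, kk(G) = k + 1 := Nat.exists_eq_succ_of_ne_zero (Nat.card_pos (α := ConjClasses G)).ne'
  rw [hk] at key ⊢
  rw [Nat.add_sub_cancel] at key
  rw [mul_add]
  omega

private theorem cc_landau {G : Type u} [Group G] [Finite G] (h : kk(G) = 3) : Nat.card G ≤ 6 := by
  classical
  have := Fintype.ofFinite G
  have := Fintype.ofFinite (ConjClasses G)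
  have hs := card_eq_sum_card_fiberwise (f := ConjClasses.mk) (s := (univ : Finset G)) (t := univ)
    fun _ _ => mem_univ _
  have hc : ∀ x : G, (filter (fun y => ConjClasses.mk y = ConjClasses.mk x) univ).card = cs(x) := fun x => by
    rw [← ncard_isConj, ← Set.ncard_coe_finset]
    congr 1
    ext y
    simp only [coe_filter, mem_univ, true_and, ConjClasses.mk_eq_mk_iff_isConj, Set.mem_ofPred_eq]
    exact isConj_comm
  have h2 : ∀ x : G, ConjClasses.mk x ≠ ConjClasses.mk 1 → 2 ≤ Nat.card cent(x) := fun x hx =>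
    (Subgroup.one_lt_card_iff_ne_bot _).2 fun e => hx (congrArg _ (Subgroup.mem_bot.1 (e ▸ self_mem_cent x)))
  obtain ⟨a, b, hab, e⟩ := card_eq_two.1 (show (univ.erase (ConjClasses.mk (1 : G))).card = 2 by
    rw [card_erase_of_mem (mem_univ _), card_univ, ← Nat.card_eq_fintype_card, h])
  obtain ⟨x, rfl⟩ := ConjClasses.mk_surjective a
  obtain ⟨y, rfl⟩ := ConjClasses.mk_surjective b
  rw [← add_sum_erase _ _ (mem_univ (ConjClasses.mk 1)), e, sum_pair hab, hc, hc, hc, cent_one, Subgroup.index_top,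
    card_univ, ← Nat.card_eq_fintype_card] at hs
  have hx := h2 x (ne_of_mem_erase (e ▸ mem_insert_self _ _))
  have hy := h2 y (ne_of_mem_erase (e ▸ mem_insert_of_mem (mem_singleton_self _)))
  have ex := cs_mul_card_cent x
  have ey := cs_mul_card_cent y
  have fx := Nat.mul_le_mul_left cs(x) hx
  have fy := Nat.mul_le_mul_left cs(y) hy
  rcases hx.eq_or_lt with hx | hx
  · rcases hy.eq_or_lt with hy | hy
    · rw [← hx] at ex
      rw [← hy] at ey
      omega
    · have := Nat.mul_le_mul_left cs(y) (Nat.succ_le_of_lt hy)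
      omega
  · have := Nat.mul_le_mul_left cs(x) (Nat.succ_le_of_lt hx)
    omega

theorem sm : SM.{u} := by
  intro G V _ _ _ _ ρ p n v₁ v₂ T h2 h7 hn
  have hp := T.prime
  have h1 := (Nat.pow_le_pow_right hp.pos hn).trans T.pow_le
  have h3 : 3 ≤ p := lt_of_le_of_ne hp.two_le h2.symm
  have h4 := Nat.pow_le_pow_left h3 2
  have h5 := three_le_k (G := G) (by omega)
  rcases h7.eq_or_lt with rfl | h7
  · rcases h5.eq_or_lt with e | e
    · have := cc_landau e.symm
      omega
    · omega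
  · have : p ≠ 6 := by rintro rfl; exact absurd hp (by decide)
    omega

end CL.Rk3L
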