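import Cfsg.Agent.R3.Defs

/-! Project R3: counting eigenvectors by conjugacy classes. -/

set_option autoImplicit false
set_option linter.unusedSectionVars false

open Cfsg CL.Perm CL.PT CL.Fgs Finset

namespace CL.Rk3L

universe u

namespace Cnt

open Classical

variable {G : Type*} [Group G] [Fintype G] {V : Type u} [AddCommGroup V] [Fintype V] {ρ : G →* AddMonoid.End V}

theorem card_fib {v w : V} (h : w ∈ orb ρ v) : #{g : G | ρ g v = w} = Nat.card (stab ρ v) := by
  obtain ⟨a, rfl⟩ := h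
  rw [card_subgroup_eq_filter]
  refine card_bij (fun g _ => a⁻¹ * g) (fun g hg => ?_) (fun g _ g' _ e => mul_left_cancel e) fun g hg => ⟨a * g, ?_, ?_⟩
  · rw [mem_filter] at hg ⊢
    exact ⟨mem_univ _, mem_stab.2 (by rw [end_mul_apply, hg.2, end_inv_apply])⟩
  · rw [mem_filter] at hg ⊢
    exact ⟨mem_univ _, by rw [end_mul_apply, mem_stab.1 hg.2]⟩
  · exact inv_mul_cancel_left a g

theorem card_fib_le (v w : V) : #{g : G | ρ g v = w} ≤ Nat.card (stab ρ v) := by
  by_cases h : w ∈ orb ρ v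
  · exact (card_fib h).le
  · rw [filter_eq_empty_iff.2 fun g _ e => h ⟨g, e⟩, card_empty]
    exact Nat.zero_le _

/-- the eigenvectors of `h` in the orbit of `w` -/
noncomputable def EF (ρ : G →* AddMonoid.End V) (h : G) (c : ℕ) (w : V) : Finset V :=
  {v | v ∈ orb ρ w ∧ ρ h v = c • v}

theorem mem_EF {h : G} {c : ℕ} {w v : V} : v ∈ EF ρ h c w ↔ v ∈ orb ρ w ∧ ρ h v = c • v := by simp [EF]

theorem sum_EF {c : ℕ} (hc : ∀ v : V, c • v ∈ orb ρ v) (w : V) : ∑ h, #(EF ρ h c w) = Nat.card G := by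
  have h1 : ∀ h, #(EF ρ h c w) = ∑ v with v ∈ orb ρ w, if ρ h v = c • v then 1 else 0 := fun h => by
    rw [← card_filter, filter_filter]; rfl
  rw [sum_congr rfl fun h _ => h1 h, sum_comm, sum_congr rfl (g := fun _ => Nat.card (stab ρ w)) fun v hv => ?_,
    sum_const, smul_eq_mul, ← ncard_orb_mul ρ w, ← Set.ncard_coe_finset]
  · congr 2
    ext v
    simp
  · rw [← card_filter, card_fib (hc v)]
    have h2 := ncard_orb_mul ρ v
    rw [orb_eq_of_mem (mem_filter.1 hv).2, ← ncard_orb_mul ρ w] at h2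
    exact Nat.eq_of_mul_eq_mul_left ((Set.ncard_pos (Set.toFinite _)).2 ⟨w, mem_orb_self ρ w⟩) h2

theorem card_EF_le (h : G) (c : ℕ) (w : V) : #(EF ρ h c w) ≤ Nat.card cent(h) := by
  have h1 : #{g : G | ρ g w ∈ EF ρ h c w} = #(EF ρ h c w) * Nat.card (stab ρ w) := by
    rw [card_eq_sum_card_fiberwise (f := fun g => ρ g w) (s := {g : G | ρ g w ∈ EF ρ h c w}) (t := EF ρ h c w)
      fun g hg => (mem_filter.1 hg).2, ← smul_eq_mul, ← sum_const]
    refine sum_congr rfl fun v hv => ?_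
    rw [← card_fib (mem_EF.1 hv).1, filter_filter]
    exact congrArg _ (filter_congr fun g _ => ⟨fun e => e.2, fun e => ⟨e ▸ hv, e⟩⟩)
  have h2 : #{g : G | ρ g w ∈ EF ρ h c w} ≤ Nat.card cent(h) * #{g : G | ρ g w = c • w} := by
    refine card_le_mul_card_image_of_maps_to (f := fun g => g⁻¹ * h * g) (fun g hg => ?_) _ fun b _ => ?_
    · rw [mem_filter] at hg ⊢
      exact ⟨mem_univ _, by rw [end_mul_apply, end_mul_apply, (mem_EF.1 hg.2).2, map_nsmul, end_inv_apply]⟩
    · rcases eq_empty_or_nonempty {a ∈ ({g : G | ρ g w ∈ EF ρ h c w} : Finset G) | a⁻¹ * h * a = b} with e | ⟨a, ha⟩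
      · rw [e, card_empty]; exact Nat.zero_le _
      · rw [card_subgroup_eq_filter]
        refine card_le_card_of_injOn (fun g => g * a⁻¹) (fun g hg => ?_) fun g _ g' _ e => mul_right_cancel e
        have h3 := (mem_filter.1 hg).2.trans (mem_filter.1 ha).2.symm
        refine mem_filter.2 ⟨mem_univ _, Subgroup.mem_centralizer_singleton_iff.2 ?_⟩
        calc g * a⁻¹ * h = g * (a⁻¹ * h * a) * a⁻¹ := by group
          _ = h * (g * a⁻¹) := by rw [← h3]; group
  rw [h1] at h2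
  exact Nat.le_of_mul_le_mul_right (h2.trans (Nat.mul_le_mul_left _ (card_fib_le w _))) Nat.card_pos

theorem aux {p n : ℕ} [Fact p.Prime] [Module (ZMod p) V] {v₁ v₂ : V} (T : Rk ρ p n v₁ v₂)
    (hne : (orb ρ v₁).ncard ≠ (orb ρ v₂).ncard) : 2 * p + n ≤ n * kk(G) + 4 := by
  have hs : ∀ (c : ZMod p) (v : V), c.val • v = c • v := fun c v => by
    rw [← Nat.cast_smul_eq_nsmul (ZMod p), ZMod.natCast_zmod_val]
  have hm : ∀ c : ZMod p, c ≠ 0 → ∀ v : V, c.val • v ∈ orb ρ v := fun c hc =>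
    T.smul_mem hne fun e => hc (by rw [← ZMod.natCast_zmod_val c]; exact (ZMod.natCast_eq_zero_iff _ _).2 e)
  have hn : Module.finrank (ZMod p) V = n := by
    have := Module.natCard_eq_pow_finrank (K := ZMod p) (V := V)
    rw [T.card, Nat.card_zmod] at this
    exact (Nat.pow_right_injective T.prime.two_le this).symm
  let x : G → ℕ := fun h => ∑ c : ZMod p with c ≠ 0, (#(EF ρ h c.val v₁) + #(EF ρ h c.val v₂))
  have h1 : ∑ h, x h = (p - 1) * (2 * Nat.card G) := by
    rw [sum_comm, sum_congr rfl (g := fun _ => 2 * Nat.card G) fun c hc => ?_, sum_const, filter_ne', card_erase_of_mem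
      (mem_univ _), card_univ, ZMod.card, smul_eq_mul]
    rw [sum_add_distrib, sum_EF (hm c (mem_filter.1 hc).2), sum_EF (hm c (mem_filter.1 hc).2), two_mul]
  have h2 : ∀ h, x h ≤ n * Nat.card cent(h) := fun h => by
    let f : Module.End (ZMod p) V := AddMonoidHom.toZModLinearMap p (ρ h)
    have h3 : ∑ c : ZMod p, Module.finrank (ZMod p) (f.eigenspace c) ≤ n := by
      rw [← hn, ← Module.finrank_directSum]
      exact LinearMap.finrank_le_finrank_of_injective f.eigenspaces_iSupIndep.dfinsupp_lsum_injective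
    refine le_trans ?_ (Nat.mul_le_mul_right _ h3)
    rw [sum_mul]
    refine (sum_le_sum fun c _ => ?_).trans (sum_le_sum_of_subset (filter_subset _ _))
    have hE : ∀ {w v}, v ∈ EF ρ h c.val w → v ∈ f.eigenspace c := fun hv =>
      Module.End.mem_eigenspace_iff.2 ((mem_EF.1 hv).2.trans (hs _ _))
    have hp : ∀ {w v}, w ≠ 0 → v ∈ EF ρ h c.val w → 1 ≤ Module.finrank (ZMod p) (f.eigenspace c) := fun hw hv =>
      Submodule.one_le_finrank_iff.2 fun e =>
        ne_zero_of_mem_orb hw (mem_EF.1 hv).1 ((Submodule.mem_bot _).1 (e ▸ hE hv))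
    have b1 := card_EF_le (ρ := ρ) h c.val v₁
    have b2 := card_EF_le (ρ := ρ) h c.val v₂
    rcases (EF ρ h c.val v₁).eq_empty_or_nonempty with e1 | ⟨a, ha⟩ <;>
      rcases (EF ρ h c.val v₂).eq_empty_or_nonempty with e2 | ⟨b, hb⟩
    · rw [e1, e2, card_empty]; exact Nat.zero_le _
    · rw [e1, card_empty, zero_add]; exact b2.trans (Nat.le_mul_of_pos_left _ (hp T.ne2 hb))
    · rw [e2, card_empty, add_zero]; exact b1.trans (Nat.le_mul_of_pos_left _ (hp T.ne1 ha))
    · have h4 : 2 ≤ Module.finrank (ZMod p) (f.eigenspace c) := by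
        by_contra hlt
        obtain ⟨t, ht⟩ := (finrank_eq_one_iff_of_nonzero' (⟨a, hE ha⟩ : f.eigenspace c) fun e =>
          ne_zero_of_mem_orb T.ne1 (mem_EF.1 ha).1 (congrArg Subtype.val e)).1
          (le_antisymm (by omega) (hp T.ne1 ha)) ⟨b, hE hb⟩
        have h5 : t • a = b := congrArg Subtype.val ht
        refine T.not_mem (orb_trans (mem_EF.1 ha).1 ?_) (mem_EF.1 hb).1
        rw [← h5, ← hs]
        refine hm t ?_ a
        rintro rfl
        exact ne_zero_of_mem_orb T.ne2 (mem_EF.1 hb).1 (by rw [← h5, zero_smul])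
      exact (Nat.add_le_add b1 b2).trans ((two_mul _).ge.trans (Nat.mul_le_mul_right _ h4))
  have hc1 : Nat.card cent((1 : G)) = Nat.card G := by
    rw [(Subgroup.eq_top_iff' cent((1 : G))).2 fun g => Subgroup.mem_centralizer_singleton_iff.2 (by simp),
      Subgroup.card_top]
  have h3 : x 1 ≤ 2 * Nat.card G := by
    have h4 : ∀ {w}, w ≠ 0 → ∀ c : ZMod p, c ≠ 1 → #(EF ρ 1 c.val w) = 0 := fun hw c hc =>
      card_eq_zero.2 (eq_empty_of_forall_notMem fun v hv => by
        have h5 := (mem_EF.1 hv).2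
        rw [map_one, hs] at h5
        have h6 : (c - 1) • v = 0 := by rw [sub_smul, one_smul, ← h5]; exact sub_self v
        exact ne_zero_of_mem_orb hw (mem_EF.1 hv).1 ((smul_eq_zero.1 h6).resolve_left (sub_ne_zero.2 hc)))
    refine (sum_eq_single_of_mem 1 (mem_filter.2 ⟨mem_univ _, one_ne_zero⟩) fun c _ hc => by
      rw [h4 T.ne1 c hc, h4 T.ne2 c hc, add_zero]).le.trans ?_
    rw [two_mul, ← hc1]
    exact Nat.add_le_add (card_EF_le _ _ _) (card_EF_le _ _ _)
  have h4 := card_conjClasses_mul_card (G := G)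
  rw [← add_sum_erase _ _ (mem_univ 1)] at h1 h4
  have h5 := sum_le_sum fun h (_ : h ∈ univ.erase (1 : G)) => h2 h
  rw [← mul_sum] at h5
  rw [hc1] at h4
  have h6 := T.prime.pos
  refine Nat.le_of_mul_le_mul_right ?_ (Nat.card_pos (α := G))
  obtain ⟨q, rfl⟩ : ∃ q, p = q + 1 := ⟨p - 1, by omega⟩
  rw [add_mul (n * _), mul_assoc n, h4]
  rw [Nat.add_sub_cancel] at h1
  nlinarith

end Cnt

theorem cnt : CNT.{u} := by
  intro G V _ _ _ _ ρ p n v₁ v₂ T hne
  have := Fintype.ofFinite G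
  have := Fintype.ofFinite V
  have := Fact.mk T.prime
  exact @Cnt.aux _ _ _ _ _ _ _ _ _ _ (AddCommGroup.zmodModule T.exp) _ _ T hne

end CL.Rk3L
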