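import Cfsg.Agent.R3.Defs

/-! S4881: the reduction to linear groups for groups without normal `p'`-subgroups. -/

set_option autoImplicit false
set_option linter.unusedSectionVars false

open Cfsg CL.Perm CL.PT CL.Fgs CL.Grp
open scoped IsMulCommutative

namespace CL.Rk3L

universe u

namespace CoreX

theorem step0 {Y : Type*} [Group Y] [Finite Y] {p : ℕ} [hp : Fact p.Prime] (p2 : p ≠ 2) (hs : IsPSolvable p Y)
    (hd : p ∣ Nat.card Y) (h : OneCl p Y) : p + 1 ≤ 2 * kPi ({p}ᶜ : Set ℕ) Y := by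
  have := hp.out.two_le
  rcases CL.PT.main hs hd h with h | ⟨h, -⟩ | ⟨h, h', -⟩ <;> omega

/-- the one-dimensional case -/
theorem dim_one {G : Type*} [Group G] [Finite G] {V : Type u} [AddCommGroup V] [Finite V]
    {ρ : G →* AddMonoid.End V} {p : ℕ} {v₁ v₂ : V} (T : Rk ρ p 1 v₁ v₂) :
    2 * Nat.card G + 1 = p ∧ IsMulCommutative G := by
  have := Fact.mk T.prime
  have hg : ∀ v : V, ∃ c : ℕ, c • v₁ = v := fun v =>
    mem_multiples_of_prime_card (T.card.trans (pow_one p)) T.ne1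
  have key : ∀ g h : G, ρ g v₁ = ρ h v₁ → g = h := fun g h e => T.inj (AddMonoidHom.ext fun v => by
    obtain ⟨c, rfl⟩ := hg v
    change ρ g (c • v₁) = ρ h (c • v₁)
    rw [map_nsmul, map_nsmul, e])
  have h1 : (orb ρ v₁).ncard = (orb ρ v₂).ncard := by
    by_contra h
    obtain ⟨c, hc⟩ := hg v₂
    refine T.nc (hc ▸ T.smul_mem h ?_ v₁)
    rintro ⟨d, rfl⟩
    exact T.ne2 (by rw [← hc, mul_smul, T.exp])
  have h2 : stab ρ v₁ = ⊥ := eq_bot_iff.2 fun g hg => key g 1 (by rw [map_one]; exact hg)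
  have h3 := ncard_orb_mul ρ v₁
  rw [h2, Subgroup.card_bot, mul_one] at h3
  have h4 := T.sum
  rw [pow_one] at h4
  refine ⟨by omega, ⟨⟨fun g h => key _ _ ?_⟩⟩⟩
  obtain ⟨c, hc⟩ := hg (ρ g v₁)
  obtain ⟨d, hd⟩ := hg (ρ h v₁)
  rw [end_mul_apply, end_mul_apply, ← hd, map_nsmul, ← hc, map_nsmul, ← hd, smul_comm]

variable {X : Type u} [Group X] [Finite X]

theorem oneCl_quot {p : ℕ} {V : Subgroup X} [V.Normal] {v x y : X} (hv : v ∈ V) (hx : IsConj x v)
    (h : ∀ g : X, g ≠ 1 → IsPiElt {p} g → IsConj x g ∨ IsConj y g) : OneCl p (X ⧸ V) := by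
  intro a b ha hb h1 h2
  obtain ⟨a, ha', rfl⟩ := exists_isPiElt_map_eq _ (QuotientGroup.mk'_surjective V) h1
  obtain ⟨b, hb', rfl⟩ := exists_isPiElt_map_eq _ (QuotientGroup.mk'_surjective V) h2
  have key : ∀ g : X, QuotientGroup.mk' V g ≠ 1 → IsPiElt {p} g → IsConj y g := fun g g1 hg =>
    (h g (fun e => g1 (by rw [e, map_one])) hg).resolve_left fun e =>
      g1 ((QuotientGroup.eq_one_iff g).2 (mem_of_isConj (hx.symm.trans e) hv))
  exact (QuotientGroup.mk' V).map_isConj ((key a ha ha').symm.trans (key b hb hb'))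

/-- A semidirect product with a self-centralising elementary abelian normal Sylow subgroup. -/
structure Sp (p : ℕ) (V G : Subgroup X) : Prop where
  prime : p.Prime
  exp : ∀ v ∈ V, v ^ p = 1
  idx : ¬ p ∣ V.index
  self : Subgroup.centralizer (V : Set X) = V
  compl : Subgroup.IsComplement' V G

namespace Sp

variable {p : ℕ} {V G : Subgroup X} [V.Normal]

theorem cop (S : Sp p V G) : ¬ p ∣ Nat.card G := S.compl.symm.index_eq_card ▸ S.idx

theorem exists_card (S : Sp p V G) : ∃ n, Nat.card V = p ^ n :=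
  haveI := Fact.mk S.prime
  IsPGroup.iff_card.1 fun v => ⟨1, Subtype.ext (by rw [pow_one]; exact S.exp v v.2)⟩

theorem lin (S : Sp p V G) [IsMulCommutative V] {n : ℕ} (hn : Nat.card V = p ^ n) : Lin (conjRep V G) p n := by
  refine ⟨S.prime, (injective_iff_map_eq_one _).2 fun g hg => Subtype.ext
    (Subgroup.mem_bot.1 (S.compl.disjoint.le_bot ⟨S.self.le fun v hv => ?_, g.2⟩)), hn, S.cop,
    fun v => Subtype.ext (S.exp _ v.toMul.2)⟩
  exact (mul_inv_eq_iff_eq_mul.1 (conjRep_eq.1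
    (DFunLike.congr_fun hg (Additive.ofMul (⟨v, hv⟩ : V))))).symm

theorem mem_orb (S : Sp p V G) [IsMulCommutative V] {v w : Additive V} :
    w ∈ orb (conjRep V G) v ↔ IsConj (v.toMul : X) w.toMul := by
  refine ⟨fun ⟨g, hg⟩ => isConj_iff.2 ⟨g, conjRep_eq.1 hg⟩, fun h => ?_⟩
  obtain ⟨c, hc⟩ := isConj_iff.1 h
  obtain ⟨⟨a, g⟩, rfl⟩ := S.compl.2 c
  refine ⟨g, conjRep_eq.2 ?_⟩
  have h7 := S.self.ge a.2 _ (Subgroup.Normal.conj_mem inferInstance _ v.toMul.2 g)
  rw [← hc]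
  calc _ = (g : X) * v.toMul * (g : X)⁻¹ * a * (a : X)⁻¹ := by group
    _ = _ := by rw [h7]; group

theorem kPi_eq (S : Sp p V G) : kPi ({p}ᶜ : Set ℕ) X = kk(G) := by
  have h0 : kPi ({p}ᶜ : Set ℕ) G = kk(G) :=
    kPi_eq_card_conjClasses fun x => (isPiElt_compl_singleton_iff S.prime).2
      fun h => S.cop (h.trans (orderOf_dvd_natCard x))
  refine le_antisymm ?_ (h0 ▸ kPi_le_of_surjective _
    (S.compl.symm.QuotientMulEquiv.toMonoidHom.comp (QuotientGroup.mk' V))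
    (S.compl.symm.QuotientMulEquiv.surjective.comp (QuotientGroup.mk'_surjective V)))
  obtain ⟨n, hn⟩ := S.exists_card
  have h1 : kPi ({p}ᶜ : Set ℕ) V ≤ 1 := kPi_le_of_dvd (b := p ^ n) (by rw [hn, one_mul])
    one_ne_zero (by rw [compl_compl]; exact isPiNum_singleton_pow S.prime n)
  refine (kPi_le_mul _ V).trans ((Nat.mul_le_mul h1 (kPi_le_card_conjClasses _)).trans ?_)
  rw [one_mul, CL.Char.kgv_card_conjClasses_congr S.compl.symm.QuotientMulEquiv]

theorem emb (S : Sp p V G) [Fact p.Prime] (hV : Nat.card V = p) :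
    ∃ f : X →* affineGroup (ZMod p), Function.Injective f := by
  let ε : Multiplicative (ZMod p) ≃* V := mulEquivOfPrimeCardEq (by simp) hV
  have hM : CL.EqOrd.Mod V fun x : ZMod p => (ε (Multiplicative.ofAdd x) : X) := by
    refine ⟨fun x y h => ε.injective (Subtype.ext h), fun g => ⟨fun hg =>
      ⟨(ε.symm ⟨g, hg⟩).toAdd, by simp⟩, by rintro ⟨x, rfl⟩; exact (ε _).2⟩,
      fun x y => by simp [ofAdd_add], fun g => ?_⟩
    let f : ZMod p ≃+ ZMod p :=
      AddEquiv.toMultiplicative.symm (ε.trans ((MulAut.conjNormal g).trans ε.symm))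
    have hf : ∀ x, f x = f 1 * x := fun x => by
      rw [mul_comm, ← smul_eq_mul, ← ZMod.map_smul, smul_eq_mul, mul_one]
    refine ⟨Units.mk0 (f 1) (by simp), RingEquiv.refl _, fun x => ?_⟩
    change _ = (ε (Multiplicative.ofAdd (f 1 * x)) : X)
    rw [← hf]
    change _ = (ε (ε.symm (MulAut.conjNormal g (ε (Multiplicative.ofAdd x)))) : X)
    rw [MulEquiv.apply_symm_apply]
    rfl
  obtain ⟨φ, h1, h2⟩ := hM.exists_emb
    (hV ▸ (Nat.Prime.coprime_iff_not_dvd S.prime).2 S.idx) S.self.le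
  refine ⟨φ.codRestrict _ fun g => ?_, fun a b e => h1 (congrArg Subtype.val e)⟩
  obtain ⟨l, a, σ, b, -, h⟩ := h2 g
  exact ⟨a, b, fun x => by rw [h, Subsingleton.elim σ (RingEquiv.refl _)]; rfl⟩

end Sp

/-- The elements of order dividing `p` in the centre of `O_p`. -/
def om (p : ℕ) (X : Type u) [Group X] : Subgroup X where
  carrier := {x | (x ∈ pCore p X ∧ x ∈ Subgroup.centralizer (pCore p X : Set X)) ∧ x ^ p = 1}
  one_mem' := ⟨⟨one_mem _, one_mem _⟩, one_pow p⟩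
  mul_mem' := fun {a b} ha hb => ⟨⟨mul_mem ha.1.1 hb.1.1, mul_mem ha.1.2 hb.1.2⟩, by
    rw [Commute.mul_pow (hb.1.2 a ha.1.1), ha.2, hb.2, one_mul]⟩
  inv_mem' := fun {a} ha => ⟨⟨inv_mem ha.1.1, inv_mem ha.1.2⟩, by rw [inv_pow, ha.2, inv_one]⟩

instance om_normal (p : ℕ) : (om p X).Normal :=
  ⟨fun a ha g => ⟨⟨Subgroup.Normal.conj_mem inferInstance a ha.1.1 g,
    Subgroup.Normal.conj_mem inferInstance a ha.1.2 g⟩, by rw [conj_pow, ha.2]; simp⟩⟩

theorem exists_mem_om {p : ℕ} [hp : Fact p.Prime] (h : pCore p X ≠ ⊥) : ∃ v ∈ om p X, orderOf v = p := by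
  have := (Subgroup.nontrivial_iff_ne_bot _).2 h
  have := (pCore_isPGroup p X).center_nontrivial
  obtain ⟨n, hn, e⟩ := ((pCore_isPGroup p X).to_subgroup (Subgroup.center _)).nontrivial_iff_card.1 inferInstance
  obtain ⟨z, hz⟩ := exists_prime_orderOf_dvd_card' (G := Subgroup.center (pCore p X)) p
    (e ▸ dvd_pow_self p hn.ne')
  have h1 : orderOf (z.1.1 : X) = p := by rw [Subgroup.orderOf_coe, Subgroup.orderOf_coe, hz]
  exact ⟨z.1.1, ⟨⟨z.1.2, fun w hw => congrArg Subtype.val (Subgroup.mem_center_iff.1 z.2 ⟨w, hw⟩)⟩,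
    orderOf_dvd_iff_pow_eq_one.1 h1.dvd⟩, h1⟩

end CoreX

open CoreX in
theorem core (h : MAIN.{u}) : CORE.{u} := by
  intro X _ _ p hp p2 hs hO hd ⟨x, y, hxy⟩
  by_cases hc : OneCl p X
  · exact Or.inl (step0 p2 hs hd hc)
  have : Nontrivial X := Finite.one_lt_card_iff_nontrivial.1
    (hp.out.one_lt.trans_le (Nat.le_of_dvd Nat.card_pos hd))
  obtain ⟨v₀, hv₀, ho⟩ :=
    exists_mem_om ((CL.Loc.pCore_ne_bot_or_pPrimeCore_ne_bot hs).resolve_right fun e => e hO)
  obtain ⟨h1, h2⟩ := isPiElt_of_order hp.out ho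
  by_cases hi : p ∣ (om p X).index
  · refine Or.inl ((step0 p2 (CL.Loc.isPSolvable_quotient hs (om p X)) hi ?_).trans
      (Nat.mul_le_mul_left 2 (kPi_le_of_surjective _ _ (QuotientGroup.mk'_surjective _))))
    rcases hxy v₀ h2 h1 with e | e
    · exact oneCl_quot hv₀ e hxy
    · exact oneCl_quot hv₀ e fun g a b => (hxy g a b).symm
  have hmem : ∀ g : X, IsPiElt {p} g → g ∈ om p X := fun g hg => by
    obtain ⟨k, hk⟩ := (isPiElt_singleton_iff hp.out).1 hg
    rw [← QuotientGroup.eq_one_iff, ← orderOf_eq_one_iff]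
    exact Nat.eq_one_of_dvd_coprimes (((Nat.Prime.coprime_iff_not_dvd hp.out).2 hi).pow_left k)
      (hk ▸ orderOf_map_dvd (QuotientGroup.mk' (om p X)) g) (orderOf_dvd_natCard _)
  have hP : om p X = pCore p X := le_antisymm (fun g hg => hg.1.1) fun g hg =>
    hmem g (isPiElt_singleton_of_mem (pCore_isPGroup p X) hg)
  have hC : Subgroup.centralizer (om p X : Set X) = om p X := by
    refine le_antisymm ?_ fun g hg w hw => hg.1.2 w hw.1.1
    rw [hP]
    exact CL.Loc.centralizer_pCore_le_of_isPSolvable hs hO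
  have hV : IsPGroup p (om p X) := hP ▸ pCore_isPGroup p X
  obtain ⟨n, hn⟩ := IsPGroup.iff_card.1 hV
  obtain ⟨K, hK⟩ := Subgroup.exists_right_complement'_of_coprime (N := om p X)
    (hn ▸ ((Nat.Prime.coprime_iff_not_dvd hp.out).2 hi).pow_left n)
  have S : Sp p (om p X) K := ⟨hp.out, fun v hv => hv.2, hi, hC, hK⟩
  have : IsMulCommutative (om p X) := Subgroup.le_centralizer_iff_isMulCommutative.1 hC.ge
  simp only [OneCl, not_forall] at hc
  obtain ⟨a, b, a1, b1, ha, hb, hab⟩ := hc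
  have T : Rk (conjRep (om p X) K) p n (Additive.ofMul ⟨a, hmem a ha⟩) (Additive.ofMul ⟨b, hmem b hb⟩) := by
    refine ⟨S.lin hn, fun e => a1 (congrArg Subtype.val e), fun e => b1 (congrArg Subtype.val e),
      fun e => hab (S.mem_orb.1 e), fun v hv => ?_⟩
    rw [S.mem_orb, S.mem_orb]
    change IsConj a _ ∨ IsConj b _
    rcases hxy a a1 ha with e1 | e1 <;> rcases hxy b b1 hb with e2 | e2 <;>
      rcases hxy _ (fun e => hv (Subtype.ext e)) (isPiElt_singleton_of_mem hV v.toMul.2) with e3 | e3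
    · exact Or.inl (e1.symm.trans e3)
    · exact absurd (e1.symm.trans e2) hab
    · exact Or.inl (e1.symm.trans e3)
    · exact Or.inr (e2.symm.trans e3)
    · exact Or.inr (e2.symm.trans e3)
    · exact Or.inl (e1.symm.trans e3)
    · exact absurd (e1.symm.trans e2) hab
    · exact Or.inl (e1.symm.trans e3)
  rw [S.kPi_eq]
  refine (h _ _ _ p n _ _ T p2).symm.imp_right ?_
  rintro rfl
  obtain ⟨h3, h4⟩ := dim_one T
  rw [pow_one] at hn
  refine ⟨by rw [card_conjClasses_of_comm h4]; omega, ?_, S.emb hn⟩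
  rw [← hK.card_mul, hn, show p - 1 = 2 * Nat.card K by omega]
  ring

end CL.Rk3L
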