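import Cfsg.Agent.Perm.PT7

/-! Linear groups of order prime to the characteristic with two orbits on non-zero vectors (S4881):
definitions, basic facts and the statements of the steps. -/

set_option autoImplicit false
set_option linter.unusedSectionVars false

open Cfsg CL.Perm CL.PT CL.Fgs

namespace CL.Rk3L

universe u

section Basic

variable {G : Type*} [Group G] [Finite G] {V : Type u} [AddCommGroup V] [Finite V]

/-- A faithful module of order `p ^ n` for a group of order prime to `p`. -/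
structure Lin (ρ : G →* AddMonoid.End V) (p n : ℕ) : Prop where
  prime : p.Prime
  inj : Function.Injective ρ
  card : Nat.card V = p ^ n
  cop : ¬ p ∣ Nat.card G
  exp : ∀ v : V, p • v = 0

/-- The orbit of a vector. -/
def orb (ρ : G →* AddMonoid.End V) (v : V) : Set V := {w | ∃ g, ρ g v = w}

/-- Exactly two orbits on the non-zero vectors. -/
structure Rk (ρ : G →* AddMonoid.End V) (p n : ℕ) (v₁ v₂ : V) : Prop extends Lin ρ p n where
  ne1 : v₁ ≠ 0
  ne2 : v₂ ≠ 0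
  nc : v₂ ∉ orb ρ v₁
  cov : ∀ v, v ≠ 0 → v ∈ orb ρ v₁ ∨ v ∈ orb ρ v₂

/-- `A` acts by scalars of a field over which `G` is semilinear. -/
def Semi (ρ : G →* AddMonoid.End V) (A : Subgroup G) (p n : ℕ) : Prop :=
  ∃ (K : Type u) (_ : Field K) (_ : Finite K) (_ : Module K V) (ι : A →* K) (σ : G →* (K ≃+* K))
    (k : ℕ), SemiData ρ A ι σ ∧ Nat.card K = p ^ k ∧ k * Module.finrank K V = n ∧ CharP K p

/-- The non-zero vectors of two complementary subgroups form one orbit. -/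
structure Spl (ρ : G →* AddMonoid.End V) (W₁ W₂ : AddSubgroup V) : Prop where
  ne1 : W₁ ≠ ⊥
  ne2 : W₂ ≠ ⊥
  compl : IsCompl W₁ W₂
  orb_eq : ∀ v, v ≠ 0 → (v ∈ W₁ ∨ v ∈ W₂) → ∀ w, w ∈ orb ρ v ↔ w ≠ 0 ∧ (w ∈ W₁ ∨ w ∈ W₂)

variable {ρ : G →* AddMonoid.End V} {p n : ℕ}

theorem mem_orb_self (ρ : G →* AddMonoid.End V) (v : V) : v ∈ orb ρ v := ⟨1, by rw [map_one]; rfl⟩

theorem map_mem_orb {v w : V} (h : w ∈ orb ρ v) (g : G) : ρ g w ∈ orb ρ v := by
  obtain ⟨a, rfl⟩ := h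
  exact ⟨g * a, end_mul_apply ρ g a v⟩

theorem orb_symm {v w : V} (h : w ∈ orb ρ v) : v ∈ orb ρ w := by
  obtain ⟨a, rfl⟩ := h
  exact ⟨a⁻¹, end_inv_apply ρ a v⟩

theorem orb_trans {v w x : V} (h : w ∈ orb ρ v) (h' : x ∈ orb ρ w) : x ∈ orb ρ v := by
  obtain ⟨a, rfl⟩ := h'
  exact map_mem_orb h a

theorem orb_eq_of_mem {v w : V} (h : w ∈ orb ρ v) : orb ρ w = orb ρ v :=
  Set.ext fun _ => ⟨orb_trans h, orb_trans (orb_symm h)⟩

theorem ne_zero_of_mem_orb {v w : V} (hv : v ≠ 0) (h : w ∈ orb ρ v) : w ≠ 0 := by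
  obtain ⟨a, rfl⟩ := h
  exact end_ne_zero ρ a hv

theorem ncard_orb (ρ : G →* AddMonoid.End V) (v : V) : (orb ρ v).ncard = (stab ρ v).index := by
  let _ : MulAction G V := MulAction.compHom V ρ
  exact (MulAction.index_stabilizer G v).symm

theorem ncard_orb_mul (ρ : G →* AddMonoid.End V) (v : V) :
    (orb ρ v).ncard * Nat.card (stab ρ v) = Nat.card G := by
  rw [ncard_orb, Subgroup.index_mul_card]

theorem ncard_orb_dvd (ρ : G →* AddMonoid.End V) (v : V) : (orb ρ v).ncard ∣ Nat.card G :=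
  ⟨_, (ncard_orb_mul ρ v).symm⟩

/-- The action of a subgroup on an invariant subgroup. -/
def resRep (ρ : G →* AddMonoid.End V) (H : Subgroup G) (W : AddSubgroup V)
    (h : ∀ g ∈ H, ∀ v ∈ W, ρ g v ∈ W) : H →* AddMonoid.End W where
  toFun g := ((ρ g : V →+ V).comp W.subtype).codRestrict W fun v => h g g.2 v v.2
  map_one' := AddMonoidHom.ext fun v => Subtype.ext (by
    change ρ (1 : G) v = v
    rw [map_one]; rfl)
  map_mul' a b := AddMonoidHom.ext fun v => Subtype.ext (end_mul_apply ρ a b v)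

theorem resRep_apply {H : Subgroup G} {W : AddSubgroup V} (h : ∀ g ∈ H, ∀ v ∈ W, ρ g v ∈ W) (g : H)
    (v : W) : (resRep ρ H W h g v : V) = ρ g v := rfl

/-- The faithful action of the quotient by the kernel. -/
def quo (ρ : G →* AddMonoid.End V) : G ⧸ ρ.ker →* AddMonoid.End V :=
  QuotientGroup.lift ρ.ker ρ le_rfl

theorem quo_mk (ρ : G →* AddMonoid.End V) (g : G) : quo ρ (g : G ⧸ ρ.ker) = ρ g := rfl

theorem quo_injective (ρ : G →* AddMonoid.End V) : Function.Injective (quo ρ) := by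
  intro a b h
  obtain ⟨a, rfl⟩ := QuotientGroup.mk_surjective a
  obtain ⟨b, rfl⟩ := QuotientGroup.mk_surjective b
  refine QuotientGroup.eq.2 ?_
  rw [MonoidHom.mem_ker, map_mul, ← quo_mk ρ b, ← h, quo_mk, ← map_mul, inv_mul_cancel, map_one]

/-- An abelian normal subgroup whose enveloping ring has no non-zero singular element generates a field. -/
theorem semi_aux [Nontrivial V] (ρ : G →* AddMonoid.End V) (hρ : Function.Injective ρ) (A : Subgroup G)
    [hA : A.Normal] [IsMulCommutative A]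
    (hz : ∀ r ∈ Subring.closure (ρ '' A), ∀ v : V, v ≠ 0 → r v = 0 → r = 0) :
    ∃ (K : Type u) (_ : Field K) (_ : Finite K) (_ : Module K V) (ι : A →* K)
      (σ : G →* (K ≃+* K)), SemiData ρ A ι σ := by
  let R := Subring.closure (ρ '' A)
  have hR : IsMulCommutative R := Subring.isMulCommutative_closure (by
    rintro _ ⟨a, ha, rfl⟩ _ ⟨b, hb, rfl⟩
    rw [← map_mul, ← map_mul, setLike_mul_comm (s := A) ha hb])
  have hc : ∀ r s : R, r * s = s * r := fun r s => hR.is_comm.comm r s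
  have hconj : ∀ (g : G), ∀ r ∈ R, ρ g * r * ρ g⁻¹ ∈ R := by
    intro g r hr
    induction hr using Subring.closure_induction with
    | mem x hx =>
      obtain ⟨a, ha, rfl⟩ := hx
      exact Subring.subset_closure ⟨_, hA.conj_mem a ha g, by rw [map_mul, map_mul]⟩
    | zero => rw [mul_zero, zero_mul]; exact R.zero_mem
    | one => rw [mul_one, ← map_mul, mul_inv_cancel, map_one]; exact R.one_mem
    | add x y _ _ hx hy => rw [mul_add, add_mul]; exact R.add_mem hx hy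
    | neg x _ hx => rw [mul_neg, neg_mul]; exact R.neg_mem hx
    | mul x y _ _ hx hy =>
      have h1 := R.mul_mem hx hy
      rwa [mul_assoc, ← mul_assoc (ρ g⁻¹), ← mul_assoc (ρ g⁻¹), ← map_mul, inv_mul_cancel, map_one,
        one_mul, ← mul_assoc, mul_assoc _ x] at h1
  have hzero : ∀ (r : R) (v : V), v ≠ 0 → r • v = 0 → r = 0 := fun r v hv h =>
    Subtype.ext (hz r r.2 v hv h)
  obtain ⟨v₀, hv₀⟩ := exists_ne (0 : V)
  have hfin : Finite R := Finite.of_injective (fun r : R => r • v₀) fun r s h =>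
    sub_eq_zero.1 (hzero _ _ hv₀ (by rw [sub_smul]; exact sub_eq_zero.2 h))
  have hF : IsField R := by
    refine ⟨⟨0, 1, fun e => hv₀ (by rw [← one_smul R v₀, ← e, zero_smul])⟩, hc, fun {r} hr => ?_⟩
    have h1 : Function.Injective (fun s : R => r * s) := fun s t e => by
      by_contra hne
      have h2 : (s - t) • v₀ ≠ 0 := fun h => hne (sub_eq_zero.1 (hzero _ _ hv₀ h))
      exact hr (hzero r _ h2 (by rw [← mul_smul, mul_sub, sub_eq_zero.2 e, zero_smul]))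
    exact Finite.surjective_of_injective h1 1
  let σ₀ : G → R →+* R := fun g =>
    { toFun := fun r => ⟨ρ g * r * ρ g⁻¹, hconj g r r.2⟩
      map_one' := Subtype.ext (by simp [← map_mul])
      map_zero' := Subtype.ext (by simp)
      map_add' := fun x y => Subtype.ext (by simp [mul_add, add_mul])
      map_mul' := fun x y => Subtype.ext (by
        change ρ g * (x * y) * ρ g⁻¹ = ρ g * x * ρ g⁻¹ * (ρ g * y * ρ g⁻¹)
        rw [mul_assoc (ρ g * x), ← mul_assoc (ρ g⁻¹), ← mul_assoc (ρ g⁻¹), ← map_mul, inv_mul_cancel,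
          map_one, one_mul, ← mul_assoc, ← mul_assoc]) }
  have hσmul : ∀ g h x, σ₀ (g * h) x = σ₀ g (σ₀ h x) := fun g h x => Subtype.ext (by
    change ρ (g * h) * x * ρ (g * h)⁻¹ = ρ g * (ρ h * x * ρ h⁻¹) * ρ g⁻¹
    simp only [mul_inv_rev, map_mul, mul_assoc])
  let _ : Field R := hF.toField
  let σ : G →* (R ≃+* R) := MonoidHom.mk'
    (fun g => RingEquiv.ofBijective (σ₀ g) (Finite.injective_iff_bijective.1 (σ₀ g).injective))
    fun g h => RingEquiv.ext fun x => hσmul g h x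
  let ι : A →* R :=
    { toFun := fun a => ⟨ρ a, Subring.subset_closure ⟨a, a.2, rfl⟩⟩
      map_one' := Subtype.ext (map_one ρ)
      map_mul' := fun a b => Subtype.ext (map_mul ρ _ _) }
  refine ⟨R, inferInstance, hfin, inferInstance, ι, σ, hρ, fun a v => rfl, fun g c v => ?_, ?_⟩
  · change _ = ρ g ((c : AddMonoid.End V) (ρ g⁻¹ (ρ g v)))
    rw [end_inv_apply]; rfl
  · rw [eq_top_iff]
    rintro ⟨r, hr⟩ -
    induction hr using Subring.closure_induction with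
    | mem x hx =>
      obtain ⟨a, ha, rfl⟩ := hx
      exact Subring.subset_closure ⟨⟨a, ha⟩, rfl⟩
    | zero => exact Subring.zero_mem _
    | one => exact Subring.one_mem _
    | add x y _ _ hx hy => exact Subring.add_mem _ hx hy
    | neg x _ hx => exact Subring.neg_mem _ hx
    | mul x y _ _ hx hy => exact Subring.mul_mem _ hx hy

namespace Lin

/-- Restriction to an invariant subgroup. -/
theorem res (T : Lin ρ p n) {H : Subgroup G} {W : AddSubgroup V} (h : ∀ g ∈ H, ∀ v ∈ W, ρ g v ∈ W)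
    {j : ℕ} (hj : Nat.card W = p ^ j) : Lin (quo (resRep ρ H W h)) p j :=
  ⟨T.prime, quo_injective _, hj, fun e => T.cop ((e.trans (Subgroup.card_quotient_dvd_card _)).trans
    H.card_subgroup_dvd_card), fun v => Subtype.ext (T.exp v)⟩

theorem eq_one (T : Lin ρ p n) {g : G} (h : ∀ v, ρ g v = v) : g = 1 :=
  T.inj (by rw [map_one]; exact AddMonoidHom.ext h)

theorem ne_of_dvd (T : Lin ρ p n) {r : ℕ} (h : r ∣ Nat.card G) : r ≠ p := fun e => T.cop (e ▸ h)

/-- An element of prime order `r` fixes `p ^ j` vectors with `j < n` and `r ∣ p ^ (n - j) - 1`. -/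
theorem exists_fix (T : Lin ρ p n) {x : G} {r : ℕ} (hr : r.Prime) (hx : orderOf x = r) :
    ∃ j < n, Nat.card (fixS ρ x) = p ^ j ∧ r ∣ p ^ (n - j) - 1 := by
  obtain ⟨j, hj, e⟩ := exists_card_eq T.prime T.card (fixS ρ x)
  have h1 := card_modEq ρ hr (hx ▸ pow_orderOf_eq_one x) (W := ⊤) fun _ _ => trivial
  rw [top_inf_eq, AddSubgroup.card_top, T.card, e] at h1
  refine ⟨j, lt_of_le_of_ne hj fun h => ?_, e,
    dvd_of_modEq hr T.prime (T.ne_of_dvd (hx ▸ orderOf_dvd_natCard x)) hj h1⟩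
  have h2 : fixS ρ x = ⊤ := AddSubgroup.eq_top_of_card_eq _ (by rw [e, h, T.card])
  have h3 : x = 1 := T.eq_one fun v => mem_fixS.1 (h2 ▸ AddSubgroup.mem_top v)
  rw [h3, orderOf_one] at hx
  exact hr.one_lt.ne hx

theorem irr_of_ppd (T : Lin ρ p n) {x : G} {r : ℕ} (hr : PPD p n r) (hx : orderOf x = r) :
    Irr ρ (Subgroup.zpowers x) := by
  intro W hW
  obtain ⟨j, hj, e, h1⟩ := T.exists_fix hr.1 hx
  have hj0 : j = 0 := by
    by_contra h
    exact hr.2.2 (n - j) (by omega) (by omega) h1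
  have h2 : fixS ρ x = ⊥ := AddSubgroup.eq_bot_of_card_eq _ (by rw [e, hj0, pow_zero])
  have h3 := card_modEq ρ hr.1 (hx ▸ pow_orderOf_eq_one x) (hW x (Subgroup.mem_zpowers x))
  obtain ⟨i, hi, e'⟩ := exists_card_eq T.prime T.card W
  rw [h2, inf_bot_eq, AddSubgroup.card_bot, e', ← pow_zero p] at h3
  have h4 := dvd_of_modEq hr.1 T.prime (T.ne_of_dvd (hx ▸ orderOf_dvd_natCard x)) (Nat.zero_le i) h3
  rcases Nat.eq_zero_or_pos i with h0 | h0
  · exact Or.inl (AddSubgroup.eq_bot_of_card_eq _ (by rw [e', h0, pow_zero]))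
  · have h5 : i = n := by
      by_contra h
      exact hr.2.2 i h0 (by omega) h4
    exact Or.inr (AddSubgroup.eq_top_of_card_eq _ (by rw [e', h5, T.card]))

/-- The complex lift of the module. -/
theorem exists_char_aux [Fact p.Prime] [Module (ZMod p) V] (T : Lin ρ p n) :
    ∃ χ : G → ℂ, IsCharacter G χ ∧ (∀ g, χ g = χ 1 → g = 1) ∧ charDegree χ = n := by
  let ρ' : G →* Module.End (ZMod p) V :=
    { toFun := fun g => AddMonoidHom.toZModLinearMap p (ρ g)
      map_one' := LinearMap.ext fun v => by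
        change ρ 1 v = v
        rw [map_one]; rfl
      map_mul' := fun g h => LinearMap.ext fun v => end_mul_apply ρ g h v }
  obtain ⟨χ, d, hχ, hd, hc⟩ := CL.Odd.exists_char_lift_rep
    ((Nat.Prime.coprime_iff_not_dvd T.prime).2 T.cop).symm ρ'
  have key : ∀ A : Subgroup G, (∀ a ∈ A, a = 1) ↔ d A = n := by
    intro A
    constructor
    · intro h
      have h1 := hc A
      rw [Nat.card_congr (Equiv.subtypeUnivEquiv fun w a ha => by
        rw [h a ha, map_one]; rfl), T.card] at h1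
      exact (Nat.pow_right_injective T.prime.two_le h1).symm
    · intro h a ha
      have h1 := hc A
      rw [h, ← T.card] at h1
      have h2 : Function.Bijective (Subtype.val : {w : V // ∀ a ∈ A, ρ' a w = w} → V) :=
        (Nat.bijective_iff_injective_and_card _).2 ⟨Subtype.val_injective, h1⟩
      refine T.eq_one fun v => ?_
      obtain ⟨w, rfl⟩ := h2.2 v
      exact w.2 a ha
  classical
  have := Fintype.ofFinite G
  have h1 : χ 1 = n := by
    have h2 := hd ⊥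
    rw [(key ⊥).1 fun a ha => ha, Subgroup.card_bot, Fintype.sum_subsingleton _ 1] at h2
    simpa using h2
  refine ⟨χ, hχ, fun g hg => ?_, hχ.charDegree_eq_iff.2 h1⟩
  have h2 : Subgroup.zpowers g ≤ CL.Char.charKer χ :=
    Subgroup.zpowers_le.2 (hχ.mem_charKer.2 hg)
  have h3 := hd (Subgroup.zpowers g)
  rw [Finset.sum_congr rfl fun a _ => hχ.mem_charKer.1 (h2 a.2), Finset.sum_const, h1,
    Finset.card_univ, nsmul_eq_mul, ← Nat.card_eq_fintype_card] at h3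
  have h4 := mul_left_cancel₀ (Nat.cast_ne_zero.2 Nat.card_pos.ne') h3
  exact (key _).2 (Nat.cast_injective h4).symm g (Subgroup.mem_zpowers g)

theorem exists_char (T : Lin ρ p n) :
    ∃ χ : G → ℂ, IsCharacter G χ ∧ (∀ g, χ g = χ 1 → g = 1) ∧ charDegree χ = n :=
  have := Fact.mk T.prime
  @exists_char_aux _ _ _ _ _ _ _ _ _ _ (AddCommGroup.zmodModule T.exp) T

theorem exists_semi [Nontrivial V] (T : Lin ρ p n) (A : Subgroup G) [A.Normal] [IsMulCommutative A]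
    (hz : ∀ r ∈ Subring.closure (ρ '' A), ∀ v : V, v ≠ 0 → r v = 0 → r = 0) : Semi ρ A p n := by
  unfold Semi
  obtain ⟨K, _, _, _, ι, σ, D⟩ := semi_aux ρ T.inj A hz
  have : Module.Finite K V := Module.Finite.of_finite
  have hd0 : 0 < Module.finrank K V := Module.finrank_pos
  have hKV := Module.natCard_eq_pow_finrank (K := K) (V := V)
  obtain ⟨k, -, hK⟩ := (Nat.dvd_prime_pow T.prime).1
    (T.card ▸ hKV ▸ dvd_pow_self (Nat.card K) hd0.ne')
  refine ⟨K, _, ‹_›, _, ι, σ, k, D, hK, Nat.pow_right_injective T.prime.two_le ?_, ?_⟩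
  · simp only
    rw [← T.card, hKV, hK, pow_mul]
  · obtain ⟨v, hv⟩ := exists_ne (0 : V)
    refine (CharP.charP_iff_prime_eq_zero T.prime).2 ?_
    have h1 := T.exp v
    rw [← Nat.cast_smul_eq_nsmul K] at h1
    exact (smul_eq_zero.1 h1).resolve_right hv

/-- The centraliser of an abelian normal subgroup whose field has codimension two. -/
theorem cent_two {A : Subgroup G} {K : Type u} [Field K] [Finite K] [Module K V] {ι : A →* K}
    {σ : G →* (K ≃+* K)} (T : Lin ρ p n) (D : SemiData ρ A ι σ) [CharP K p]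
    (hd : Module.finrank K V = 2) {C : Type*} [Group C] [Finite C] (j : C →* G)
    (hj : Function.Injective j) (hσ : ∀ c, j c ∈ σ.ker) :
    ∃ (Z : Subgroup C) (_ : Z.Normal), Z ≤ Subgroup.center _ ∧ Nat.card Z ∣ Nat.card K - 1 ∧
      ((∃ B : Subgroup C, IsMulCommutative B ∧ B.index ∣ 2) ∨
        Nonempty (C ⧸ Z ≃* alternatingGroup (Fin 4)) ∨ Nonempty (C ⧸ Z ≃* Equiv.Perm (Fin 4)) ∨
        Nonempty (C ⧸ Z ≃* alternatingGroup (Fin 5))) := by
  have := Fact.mk T.prime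
  let f : C →* Module.End K V :=
    { toFun := fun c => D.lin ⟨j c, hσ c⟩
      map_one' := LinearMap.ext fun v => by
        change ρ (j 1) v = v
        rw [map_one, map_one]; rfl
      map_mul' := fun g h => LinearMap.ext fun v => by
        change ρ (j (g * h)) v = ρ (j g) (ρ (j h) v)
        rw [map_mul, end_mul_apply] }
  obtain ⟨Z, hZ, -, h⟩ := dim_two p hd f (fun g h e => hj (D.ext fun v =>
    LinearMap.congr_fun e v)) fun h => T.cop (h.trans (Subgroup.card_dvd_of_injective j hj))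
  exact ⟨Z, hZ, h⟩

/-- An abelian subgroup of small index in the centraliser when the field has codimension at most two. -/
theorem cent_le_two {A : Subgroup G} {K : Type u} [Field K] [Finite K] [Module K V] {ι : A →* K}
    {σ : G →* (K ≃+* K)} (T : Lin ρ p n) (D : SemiData ρ A ι σ) [CharP K p]
    (hd : Module.finrank K V ≤ 2) :
    ∃ B : Subgroup σ.ker, IsMulCommutative B ∧ (Module.finrank K V ≤ 1 → B = ⊤) ∧
      (B.index ∣ 2 ∨ B.index = 12 ∨ B.index = 24 ∨ B.index = 60) := by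
  have : Module.Finite K V := Module.Finite.of_finite
  by_cases h : Module.finrank K V ≤ 1
  · refine ⟨⊤, ⟨⟨fun a b => Subtype.ext (Subtype.ext (D.ext fun v => ?_))⟩⟩, fun _ => rfl, by simp⟩
    obtain ⟨w, hw⟩ := finrank_le_one_iff.1 h
    obtain ⟨c, rfl⟩ := hw v
    obtain ⟨s, hs⟩ := hw (D.lin a.1 w)
    obtain ⟨t, ht⟩ := hw (D.lin b.1 w)
    change ρ ((a.1 : G) * b.1) _ = ρ ((b.1 : G) * a.1) _
    rw [end_mul_apply, end_mul_apply, ← D.lin_apply, ← D.lin_apply, ← D.lin_apply, ← D.lin_apply]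
    simp only [map_smul, ← hs, ← ht, smul_smul, mul_right_comm c s t]
  obtain ⟨Z, _, h1, -, ⟨B, h2, h3⟩ | h2⟩ := T.cent_two D (by omega) σ.ker.subtype
    Subtype.val_injective fun c => c.2
  · exact ⟨B, h2, fun e => absurd e h, Or.inl h3⟩
  · exact ⟨Z, ⟨⟨fun a b => Subtype.ext (Subgroup.mem_center_iff.1 (h1 b.2) a)⟩⟩, fun e => absurd e h,
      Or.inr (card_cases h2)⟩

end Lin

namespace Rk

variable {v₁ v₂ : V}

theorem symm (T : Rk ρ p n v₁ v₂) : Rk ρ p n v₂ v₁ :=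
  ⟨T.toLin, T.ne2, T.ne1, fun h => T.nc (orb_symm h), fun v hv => (T.cov v hv).symm⟩

theorem nontrivial (T : Rk ρ p n v₁ v₂) : Nontrivial V := ⟨v₁, 0, T.ne1⟩

theorem not_mem (T : Rk ρ p n v₁ v₂) {v : V} (h : v ∈ orb ρ v₁) : v ∉ orb ρ v₂ :=
  fun h' => T.nc (orb_trans h (orb_symm h'))

theorem orb_eq (T : Rk ρ p n v₁ v₂) {v : V} (hv : v ≠ 0) : orb ρ v = orb ρ v₁ ∨ orb ρ v = orb ρ v₂ :=
  (T.cov v hv).imp orb_eq_of_mem orb_eq_of_mem

theorem union (T : Rk ρ p n v₁ v₂) : orb ρ v₁ ∪ orb ρ v₂ = {0}ᶜ :=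
  Set.ext fun v => ⟨fun h => h.elim (ne_zero_of_mem_orb T.ne1) (ne_zero_of_mem_orb T.ne2), T.cov v⟩

theorem sum (T : Rk ρ p n v₁ v₂) : (orb ρ v₁).ncard + (orb ρ v₂).ncard + 1 = p ^ n := by
  rw [← Set.ncard_union_eq (Set.disjoint_left.2 fun _ => T.not_mem), T.union, ← T.card,
    ← Set.ncard_singleton (0 : V), add_comm, Set.ncard_add_ncard_compl]

theorem pow_le (T : Rk ρ p n v₁ v₂) : p ^ n ≤ 2 * Nat.card G + 1 := by
  have h1 := Nat.le_of_dvd Nat.card_pos (ncard_orb_dvd ρ v₁)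
  have h2 := Nat.le_of_dvd Nat.card_pos (ncard_orb_dvd ρ v₂)
  have := T.sum
  omega

theorem pos (T : Rk ρ p n v₁ v₂) : 1 ≤ n := by
  have := T.nontrivial
  have h := Finite.one_lt_card (α := V)
  rw [T.card] at h
  exact Nat.pos_of_ne_zero fun e => by simp [e] at h

/-- Non-zero multiples of a vector stay in its orbit when the orbit lengths differ. -/
theorem smul_mem (T : Rk ρ p n v₁ v₂) (h : (orb ρ v₁).ncard ≠ (orb ρ v₂).ncard) {c : ℕ}
    (hc : ¬ p ∣ c) (v : V) : c • v ∈ orb ρ v := by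
  have hi : Function.Injective fun x : V => c • x := by
    refine (injective_iff_map_eq_zero (nsmulAddMonoidHom c : V →+ V)).2 fun x hx => ?_
    exact AddMonoid.addOrderOf_eq_one_iff.1 (Nat.eq_one_of_dvd_coprimes
      ((Nat.Prime.coprime_iff_not_dvd T.prime).2 hc) (addOrderOf_dvd_of_nsmul_eq_zero (T.exp x))
      (addOrderOf_dvd_of_nsmul_eq_zero hx))
  by_cases hv : v = 0
  · rw [hv, smul_zero]; exact mem_orb_self ρ 0
  have h0 : c • v ≠ 0 := fun e => hv (hi (by simpa using e))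
  have h1 : orb ρ (c • v) = (fun x => c • x) '' orb ρ v := Set.ext fun w =>
    ⟨fun ⟨g, hg⟩ => ⟨_, ⟨g, rfl⟩, by rw [← hg, map_nsmul]⟩, by
      rintro ⟨_, ⟨g, rfl⟩, rfl⟩
      exact ⟨g, map_nsmul _ _ _⟩⟩
  have h2 : (orb ρ (c • v)).ncard = (orb ρ v).ncard := by
    rw [h1, Set.ncard_image_of_injective _ hi]
  have h3 : orb ρ (c • v) = orb ρ v := by
    rcases T.orb_eq hv with e | e <;> rcases T.orb_eq h0 with e' | e' <;> rw [e, e'] at h2 ⊢
    · exact absurd h2.symm h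
    · exact absurd h2 h
  exact h3 ▸ mem_orb_self ρ _

end Rk

end Basic

/-! ### The steps -/

def SRG : Prop := ∀ (G V : Type u) [Group G] [Finite G] [AddCommGroup V] [Finite V]
  (ρ : G →* AddMonoid.End V) (p n : ℕ) (v₁ v₂ : V), Rk ρ p n v₁ v₂ →
  (orb ρ v₁).ncard ≠ (orb ρ v₂).ncard → ∃ m, n = 2 * m ∧
    ((p ^ m - 1 ∣ (orb ρ v₁).ncard ∧ p ^ m - 1 ∣ (orb ρ v₂).ncard) ∨
      (p ^ m + 1 ∣ (orb ρ v₁).ncard ∧ p ^ m + 1 ∣ (orb ρ v₂).ncard))

def CNT : Prop := ∀ (G V : Type u) [Group G] [Finite G] [AddCommGroup V] [Finite V]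
  (ρ : G →* AddMonoid.End V) (p n : ℕ) (v₁ v₂ : V), Rk ρ p n v₁ v₂ →
  (orb ρ v₁).ncard ≠ (orb ρ v₂).ncard → 2 * p + n ≤ n * kk(G) + 4

def CC : Prop := ∀ (G V : Type u) [Group G] [Finite G] [AddCommGroup V] [Finite V]
  (ρ : G →* AddMonoid.End V) (p n t : ℕ), Lin ρ p n → t.Prime → t ∣ Nat.card G →
  t + n ≤ n * kk(G) + 1

def SM : Prop := ∀ (G V : Type u) [Group G] [Finite G] [AddCommGroup V] [Finite V]
  (ρ : G →* AddMonoid.End V) (p n : ℕ) (v₁ v₂ : V), Rk ρ p n v₁ v₂ → p ≠ 2 → p ≤ 7 → 2 ≤ n →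
  p + 1 ≤ 2 * kk(G)

def FT : Prop := ∀ (G V : Type u) [Group G] [Finite G] [AddCommGroup V] [Finite V]
  (ρ : G →* AddMonoid.End V) (p n r : ℕ), Lin ρ p n → r.Prime → r ∣ Nat.card G → pCore r G = ⊥ →
  r ≤ 2 * n + 1 ∧ (r = 2 * n + 1 → 3 ≤ n → Nat.card G ≤ kk(G) * (2 * n * (n + 1) * (2 * n + 1)))

def UE : Prop := ∀ (G V : Type u) [Group G] [Finite G] [AddCommGroup V] [Finite V]
  (ρ : G →* AddMonoid.End V) (p n m r e b : ℕ), Lin ρ p n → PPD p m r → r ≠ 2 → 1 ≤ n → n ≤ 2 * m →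
  pCore r G = ⊥ → n ≤ r ^ b → (∀ v, v ≠ 0 → r ^ e ∣ (orb ρ v).ncard) → e ≤ b

def DICH : Prop := ∀ (G V : Type u) [Group G] [Finite G] [AddCommGroup V] [Finite V]
  (ρ : G →* AddMonoid.End V) (p n : ℕ) (v₁ v₂ : V), Rk ρ p n v₁ v₂ →
  ∀ (A : Subgroup G) [A.Normal] [IsMulCommutative A], Semi ρ A p n ∨
    ∃ W₁ W₂, Spl ρ W₁ W₂ ∧ ∀ a ∈ A, ∀ v ∈ W₁, ρ a v ∈ W₁

def IMP : Prop := ∀ (G V : Type u) [Group G] [Finite G] [AddCommGroup V] [Finite V]
  (ρ : G →* AddMonoid.End V) (p n : ℕ) (W₁ W₂ : AddSubgroup V), Lin ρ p n → Spl ρ W₁ W₂ → p ≠ 2 →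
  5 ≤ n → p + 1 ≤ 2 * kk(G)

def NUM : Prop := ∀ p m M : ℕ, p.Prime → 11 ≤ p → 3 ≤ m → M ∣ p ^ m - 1 →
  (∀ i, 1 ≤ i → i < m → Nat.Coprime M (p ^ i - 1)) → p ^ m.totient ≤ 4 * (M * m) →
  (∀ r, r.Prime → r ∣ M → (r = m + 1 ∨ r = 2 * m + 1 ∨ r = 3 * m + 1) ∧ ¬ r ^ 3 ∣ M ∧
    (r ^ 2 ∣ M → r = m + 1)) → m = 6 ∧ (p = 17 ∨ p = 19 ∨ p = 31)

def TWO : Prop := ∀ (G V : Type u) [Group G] [Finite G] [AddCommGroup V] [Finite V]
  (ρ : G →* AddMonoid.End V) (p : ℕ) (v₁ v₂ : V), Rk ρ p 2 v₁ v₂ → 11 ≤ p → p + 1 ≤ 2 * kk(G)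

def MAIN : Prop := ∀ (G V : Type u) [Group G] [Finite G] [AddCommGroup V] [Finite V]
  (ρ : G →* AddMonoid.End V) (p n : ℕ) (v₁ v₂ : V), Rk ρ p n v₁ v₂ → p ≠ 2 →
  n = 1 ∨ p + 1 ≤ 2 * kk(G)

/-- At most two classes of non-trivial `p`-elements. -/
def TwoCl (p : ℕ) (G : Type*) [Group G] : Prop :=
  ∃ x y : G, ∀ g : G, g ≠ 1 → IsPiElt {p} g → IsConj x g ∨ IsConj y g

def CORE : Prop := ∀ (X : Type u) [Group X] [Finite X] (p : ℕ) [Fact p.Prime], p ≠ 2 →
  IsPSolvable p X → pPrimeCore p X = ⊥ → p ∣ Nat.card X → TwoCl p X →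
  p + 1 ≤ 2 * kPi ({p}ᶜ : Set ℕ) X ∨ (2 * kPi ({p}ᶜ : Set ℕ) X = p - 1 ∧
    2 * Nat.card X = p * (p - 1) ∧ ∃ f : X →* affineGroup (ZMod p), Function.Injective f)

def FIN : Prop := ∀ (G : Type u) [Group G] [Finite G] (p : ℕ) [Fact p.Prime], IsPSolvable p G →
  kPi {p} G = 3 → p - 1 ≤ 2 * kPi ({p}ᶜ : Set ℕ) G ∧ (2 * kPi ({p}ᶜ : Set ℕ) G = p - 1 ↔
    (p ≠ 2 ∧ 2 * Nat.card G = p * (p - 1) ∧ ∃ f : G →* affineGroup (ZMod p), Function.Injective f))

end CL.Rk3L
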