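import Cfsg.Agent.R3.Defs

/-! Linear groups with two orbits on non-zero vectors: an abelian normal subgroup generates a field or splits the space. -/

set_option autoImplicit false
set_option linter.unusedSectionVars false

open Cfsg CL.Perm CL.PT CL.Fgs

namespace CL.Rk3L

universe u

section

variable {G : Type*} [Group G] [Finite G] {V : Type u} [AddCommGroup V] [Finite V] {ρ : G →* AddMonoid.End V}
  {p n : ℕ} {v₁ v₂ : V}

theorem dich_conj (ρ : G →* AddMonoid.End V) (A : Subgroup G) [hA : A.Normal] (g : G) :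
    ∀ r ∈ Subring.closure (ρ '' A), ρ g * r * ρ g⁻¹ ∈ Subring.closure (ρ '' A) := by
  intro r hr
  induction hr using Subring.closure_induction with
  | mem x hx =>
    obtain ⟨a, ha, rfl⟩ := hx
    exact Subring.subset_closure ⟨_, hA.conj_mem a ha g, by rw [map_mul, map_mul]⟩
  | zero => rw [mul_zero, zero_mul]; exact Subring.zero_mem _
  | one => rw [mul_one, ← map_mul, mul_inv_cancel, map_one]; exact Subring.one_mem _
  | add x y _ _ hx hy => rw [mul_add, add_mul]; exact Subring.add_mem _ hx hy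
  | neg x _ hx => rw [mul_neg, neg_mul]; exact Subring.neg_mem _ hx
  | mul x y _ _ hx hy =>
    have h1 := Subring.mul_mem _ hx hy
    rwa [mul_assoc, ← mul_assoc (ρ g⁻¹), ← mul_assoc (ρ g⁻¹), ← map_mul, inv_mul_cancel, map_one,
      one_mul, ← mul_assoc, mul_assoc _ x] at h1

theorem dich_comm (ρ : G →* AddMonoid.End V) (A : Subgroup G) [IsMulCommutative A] :
    ∀ r ∈ Subring.closure (ρ '' A), ∀ s ∈ Subring.closure (ρ '' A), Commute r s := fun r hr s hs =>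
  congrArg Subtype.val ((Subring.isMulCommutative_closure (by
    rintro _ ⟨a, ha, rfl⟩ _ ⟨b, hb, rfl⟩
    rw [← map_mul, ← map_mul, setLike_mul_comm (s := A) ha hb])).is_comm.comm ⟨r, hr⟩ ⟨s, hs⟩)

/-- the enveloping ring is fixed by a power of the Frobenius map -/
theorem dich_frob [Nontrivial V] (T : Lin ρ p n) (A : Subgroup G) [IsMulCommutative A] :
    ∃ s : ℕ, ∀ r ∈ Subring.closure (ρ '' A), r ^ (s + 2) = r := by
  have := Fact.mk T.prime
  have hf : 0 < (Nat.card G).totient := Nat.totient_pos.2 Nat.card_pos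
  obtain ⟨v, hv⟩ := exists_ne (0 : V)
  have : Nontrivial (AddMonoid.End V) := ⟨0, 1, fun e => hv (congrArg (fun f : AddMonoid.End V => f v) e).symm⟩
  have : CharP (AddMonoid.End V) p :=
    (CharP.charP_iff_prime_eq_zero T.prime).2 (AddMonoidHom.ext fun w => (AddMonoid.End.natCast_apply p w).trans (T.exp w))
  obtain ⟨s, hs⟩ := Nat.exists_eq_add_of_le' (Nat.one_lt_pow hf.ne' T.prime.one_lt)
  refine ⟨s, fun r hr => ?_⟩
  rw [show s + 2 = p ^ (Nat.card G).totient from hs.symm]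
  induction hr using Subring.closure_induction with
  | mem x hx =>
    obtain ⟨a, -, rfl⟩ := hx
    rw [← map_pow]
    congr 1
    have h1 := Nat.ModEq.pow_totient ((Nat.Prime.coprime_iff_not_dvd T.prime).2 T.cop)
    exact (pow_eq_pow_iff_modEq.2 (h1.of_dvd (orderOf_dvd_natCard a))).trans (pow_one a)
  | zero => exact zero_pow (pow_ne_zero _ T.prime.ne_zero)
  | one => exact one_pow _
  | add x y hx' hy' hx hy => rw [add_pow_char_pow_of_commute _ _ (dich_comm ρ A x hx' y hy'), hx, hy]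
  | neg x _ hx => rw [neg_pow, neg_one_pow_char_pow, hx, neg_one_mul]
  | mul x y hx' hy' hx hy => rw [(dich_comm ρ A x hx' y hy').mul_pow, hx, hy]

theorem dich_le {R : Subring (AddMonoid.End V)} (hj : ∀ g : G, ∀ r ∈ R, ρ g * r * ρ g⁻¹ ∈ R) {v w : V}
    (h : w ∈ orb ρ v) : {x | x ∈ R ∧ x v = 0}.ncard ≤ {x | x ∈ R ∧ x w = 0}.ncard := by
  have : Finite (AddMonoid.End V) := DFunLike.finite _
  obtain ⟨g, rfl⟩ := h
  refine Set.ncard_le_ncard_of_injOn (fun x => ρ g * x * ρ g⁻¹) (fun x hx => ⟨hj g x hx.1, ?_⟩) fun x _ y _ e => ?_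
  · change ρ g (x (ρ g⁻¹ (ρ g v))) = 0
    rw [end_inv_apply, hx.2, map_zero]
  · have k : ∀ z, ρ g⁻¹ * (ρ g * z * ρ g⁻¹) * ρ g = z := fun z => by
      rw [← mul_assoc, ← mul_assoc, ← map_mul, mul_assoc, ← map_mul, inv_mul_cancel, map_one, one_mul, mul_one]
    rw [← k x, ← k y]
    exact congrArg (fun z => ρ g⁻¹ * z * ρ g) e

/-- an idempotent of the invariant commutative ring `R` splits the space -/
theorem dich_spl (T : Rk ρ p n v₁ v₂) {R : Subring (AddMonoid.End V)} (hc : ∀ r ∈ R, ∀ s ∈ R, Commute r s)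
    (hj : ∀ g : G, ∀ r ∈ R, ρ g * r * ρ g⁻¹ ∈ R) {e : AddMonoid.End V} (he : e ∈ R) (ee : ∀ v, e (e v) = e v)
    {u₁ u₂ : V} (h1 : u₁ ≠ 0) (e1 : e u₁ = 0) (h2 : e u₂ ≠ 0) :
    Spl ρ (AddMonoidHom.ker (e : V →+ V)) (AddMonoidHom.ker ((1 - e : AddMonoid.End V) : V →+ V)) := by
  have : Finite (AddMonoid.End V) := DFunLike.finite _
  have m1 : ∀ {v}, v ∈ AddMonoidHom.ker (e : V →+ V) ↔ e v = 0 := Iff.rfl
  have m2 : ∀ {v}, v ∈ AddMonoidHom.ker ((1 - e : AddMonoid.End V) : V →+ V) ↔ e v = v :=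
    (sub_eq_zero (a := _) (b := e _)).trans eq_comm
  have e3 : ∀ v, e (v - e v) = 0 := fun v => by rw [map_sub, ee, sub_self]
  have key : ∀ w₁ w₂, w₁ ≠ 0 → e w₁ = 0 → w₂ ≠ 0 → e w₂ = w₂ → w₁ + w₂ ∉ orb ρ w₁ ∧ w₁ + w₂ ∉ orb ρ w₂ := by
    intro w₁ w₂ n1 a1 n2 a2
    have a3 : e (w₁ + w₂) = w₂ := by rw [map_add, a1, a2, zero_add]
    have k : ∀ x ∈ R, x (w₁ + w₂) = 0 → x w₁ = 0 ∧ x w₂ = 0 := fun x hx h => by
      have h3 : x (e (w₁ + w₂)) = e (x (w₁ + w₂)) := congrArg (fun f : AddMonoid.End V => f (w₁ + w₂)) (hc x hx e he)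
      rw [a3, h, map_zero] at h3
      rw [map_add, h3, add_zero] at h
      exact ⟨h, h3⟩
    refine ⟨fun h => (dich_le hj h).not_gt (Set.ncard_lt_ncard ⟨fun x hx => ⟨hx.1, (k x hx.1 hx.2).1⟩, fun hs => ?_⟩),
      fun h => (dich_le hj h).not_gt (Set.ncard_lt_ncard ⟨fun x hx => ⟨hx.1, (k x hx.1 hx.2).2⟩, fun hs => ?_⟩)⟩
    · exact n2 (a3.symm.trans (hs ⟨he, a1⟩).2)
    · have h4 : w₁ + w₂ - e (w₁ + w₂) = 0 := (hs (a := 1 - e) ⟨R.sub_mem R.one_mem he, m2.2 a2⟩).2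
      rw [a3, add_sub_cancel_right] at h4
      exact n1 h4
  have k2 : ∀ w₁ w₂, w₁ ≠ 0 → e w₁ = 0 → w₂ ≠ 0 → e w₂ = w₂ → orb ρ w₁ = orb ρ w₂ := by
    intro w₁ w₂ n1 a1 n2 a2
    obtain ⟨b1, b2⟩ := key w₁ w₂ n1 a1 n2 a2
    have n3 : w₁ + w₂ ≠ 0 := fun h => n2 (by rw [← a2, ← zero_add (e w₂), ← a1, ← map_add, h, map_zero, a1])
    rcases T.orb_eq n1 with c1 | c1 <;> rcases T.orb_eq n2 with c2 | c2 <;> rw [c1] at b1 ⊢ <;> rw [c2] at b2 ⊢
    · exact absurd ((T.cov _ n3).resolve_left b1) b2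
    · exact absurd ((T.cov _ n3).resolve_left b2) b1
  have k3 : ∀ v, v ≠ 0 → (e v = 0 ∨ e v = v) → orb ρ v = orb ρ u₁ := fun v hv h =>
    h.elim (fun h => (k2 v _ hv h h2 (ee _)).trans (k2 _ _ h1 e1 h2 (ee _)).symm) fun h => (k2 _ _ h1 e1 hv h).symm
  refine ⟨fun h => h1 (AddSubgroup.mem_bot.1 (h ▸ m1.2 e1)), fun h => h2 (AddSubgroup.mem_bot.1 (h ▸ m2.2 (ee u₂))),
    ⟨AddSubgroup.disjoint_def.2 fun a b => (m2.1 b).symm.trans (m1.1 a), codisjoint_iff.2 (eq_top_iff.2 fun v _ => ?_)⟩,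
    fun v hv h w => ?_⟩
  · rw [← sub_add_cancel v (e v)]
    exact AddSubgroup.add_mem_sup (m1.2 (e3 v)) (m2.2 (ee v))
  rw [m1, m2] at h ⊢
  refine ⟨fun hw => ⟨ne_zero_of_mem_orb hv hw, by_contra fun hn => ?_⟩, fun hw => ?_⟩
  · have n1 : w - e w ≠ 0 := fun h => hn (Or.inr (sub_eq_zero.1 h).symm)
    have := (key _ _ n1 (e3 w) (fun h => hn (Or.inl h)) (ee w)).1
    rw [sub_add_cancel, k3 _ n1 (Or.inl (e3 w)), ← k3 v hv h] at this
    exact this hw
  · rw [k3 v hv h, ← k3 w hw.1 hw.2]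
    exact mem_orb_self ρ w

end

theorem dich : DICH.{u} := by
  intro G V _ _ _ _ ρ p n v₁ v₂ T A _ _
  have := T.nontrivial
  by_cases hz : ∀ r ∈ Subring.closure (ρ '' A), ∀ v : V, v ≠ 0 → r v = 0 → r = 0
  · exact Or.inl (T.toLin.exists_semi A hz)
  push Not at hz
  obtain ⟨r, hr, v, hv, rv, r0⟩ := hz
  obtain ⟨s, hs⟩ := dich_frob T.toLin A
  have he : r ^ (s + 1) ∈ Subring.closure (ρ '' A) := Subring.pow_mem _ hr _
  have ee : r ^ (s + 1) * r ^ (s + 1) = r ^ (s + 1) := by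
    rw [← pow_add, show s + 1 + (s + 1) = s + (s + 2) by ring, pow_add, hs r hr, pow_succ]
  obtain ⟨w, hw⟩ : ∃ w, (r ^ (s + 1)) w ≠ 0 := by
    by_contra h
    push Not at h
    have h0 : r ^ (s + 1) = 0 := AddMonoidHom.ext h
    exact r0 (by rw [← hs r hr, pow_succ, h0, zero_mul])
  refine Or.inr ⟨_, _, dich_spl T (dich_comm ρ A) (dich_conj ρ A) he
    (fun x => congrArg (fun f : AddMonoid.End V => f x) ee) hv ?_ hw, fun a ha x hx => ?_⟩
  · rw [pow_succ]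
    change (r ^ s) (r v) = 0
    rw [rv, map_zero]
  · have h1 : (r ^ (s + 1)) (ρ a x) = ρ a ((r ^ (s + 1)) x) := congrArg (fun f : AddMonoid.End V => f x)
      (dich_comm ρ A _ he _ (Subring.subset_closure ⟨a, ha, rfl⟩))
    exact h1.trans ((congrArg (ρ a) hx).trans (map_zero _))

end CL.Rk3L
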