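import Cfsg.Agent.R3.Defs

/-! The final reduction for S4881. -/

set_option autoImplicit false

open Cfsg CL.Perm CL.PT CL.Fgs CL.Grp

namespace CL.Rk3L

universe u

theorem fin_two {G : Type*} [Group G] [Finite G] {p : ℕ} (h : kPi {p} G = 3) : TwoCl p G := by
  classical
  let c : ∀ g : G, IsPiElt {p} g → {C : ConjClasses G // ∀ x : G, ConjClasses.mk x = C → IsPiElt {p} x} :=
    fun g hg => ⟨ConjClasses.mk g, fun x hx => hg.of_isConj (ConjClasses.mk_eq_mk_iff_isConj.1 hx).symm⟩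
  have := Fintype.ofFinite {C : ConjClasses G // ∀ x : G, ConjClasses.mk x = C → IsPiElt {p} x}
  rw [kPi, Nat.card_eq_fintype_card] at h
  obtain ⟨⟨A, hA⟩, ⟨B, hB⟩, -, e⟩ := Finset.card_eq_two.1
    (show (Finset.univ.erase (c 1 (isPiElt_one _))).card = 2 by
      rw [Finset.card_erase_of_mem (Finset.mem_univ _), Finset.card_univ, h])
  obtain ⟨x, rfl⟩ := ConjClasses.mk_surjective A
  obtain ⟨y, rfl⟩ := ConjClasses.mk_surjective B
  refine ⟨x, y, fun g g1 hg => ?_⟩
  have : c g hg ∈ Finset.univ.erase (c 1 (isPiElt_one _)) := Finset.mem_erase.2 ⟨fun q =>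
    g1 (isConj_one_left.1 (ConjClasses.mk_eq_mk_iff_isConj.1 (Subtype.mk.inj q))), Finset.mem_univ _⟩
  rw [e, Finset.mem_insert, Finset.mem_singleton] at this
  exact this.imp (fun q => ConjClasses.mk_eq_mk_iff_isConj.1 (Subtype.mk.inj q).symm)
    fun q => ConjClasses.mk_eq_mk_iff_isConj.1 (Subtype.mk.inj q).symm

theorem fin (h : CORE.{u}) : FIN.{u} := by
  intro G _ _ p hp hs h3
  have k0 := kPi_pos (G := G) ({p}ᶜ : Set ℕ)
  by_cases p2 : p = 2
  · subst p2
    exact ⟨by omega, fun q => by omega, fun q => (q.1 rfl).elim⟩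
  have t := fin_two h3
  have hd : p ∣ Nat.card G := by
    by_contra q
    obtain ⟨P⟩ : Nonempty (Sylow p G) := inferInstance
    have := kPi_singleton_le P
    rw [P.card_eq_multiplicity, Nat.factorization_eq_zero_of_not_dvd q, pow_zero] at this
    omega
  have key : p + 1 ≤ 2 * kPi ({p}ᶜ : Set ℕ) G ∨ (2 * kPi ({p}ᶜ : Set ℕ) G = p - 1 ∧
      2 * Nat.card G = p * (p - 1) ∧ ∃ f : G →* affineGroup (ZMod p), Function.Injective f) := by
    by_cases hO : pPrimeCore p G = ⊥
    · exact h G p p2 hs hO hd t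
    left
    have hN := (Nat.Prime.coprime_iff_not_dvd hp.out).1 (pPrimeCore_coprime p G).symm
    have hs' := QuotientGroup.mk'_surjective (pPrimeCore p G)
    obtain ⟨a, ha, ha1⟩ := (Subgroup.bot_or_exists_ne_one _).resolve_left hO
    have h3 := kPi_add_one_le _ _ hs'
      (isPiElt_of_mem ((isPiNum_compl_singleton_iff hp.out).2 hN) ha) ((QuotientGroup.eq_one_iff a).2 ha) ha1
    obtain ⟨x, y, t⟩ := t
    have := h _ p p2 (CL.Loc.isPSolvable_quotient hs _) (pPrimeCore_quotient_pPrimeCore p G)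
      (((Nat.Prime.dvd_mul hp.out).1
        (Subgroup.card_eq_card_quotient_mul_card_subgroup (pPrimeCore p G) ▸ hd)).resolve_right hN)
      ⟨QuotientGroup.mk' _ x, QuotientGroup.mk' _ y, fun g g1 hg => by
        obtain ⟨b, hb, rfl⟩ := exists_isPiElt_map_eq _ hs' hg
        exact (t b (fun e => g1 (by rw [e, map_one])) hb).imp (MonoidHom.map_isConj _) (MonoidHom.map_isConj _)⟩
    have := hp.out.one_lt
    omega
  refine ⟨by omega, fun q => ⟨p2, (key.resolve_left (by omega)).2⟩, fun ⟨_, q, _⟩ => ?_⟩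
  obtain ⟨m, hm⟩ := hp.out.odd_of_ne_two p2
  have := hp.out.one_lt
  have : kPi ({p}ᶜ : Set ℕ) G ≤ m := kPi_le_of_dvd (b := p ^ 1) (dvd_of_eq (by
    rw [show p - 1 = 2 * m by omega] at q; rw [pow_one]; nlinarith)) (by omega)
    (by rw [compl_compl]; exact isPiNum_singleton_pow hp.out 1)
  omega

end CL.Rk3L
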