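import Cfsg.Agent.R3.Defs
import Cfsg.Agent.S4200

/-! The imprimitive case: reduction to the transitive action on one of the two summands. -/

set_option autoImplicit false

open Cfsg CL.Perm CL.PT CL.Fgs

namespace CL.Rk3L

universe u

theorem imp : IMP.{u} := by
  intro G V _ _ _ _ ρ p n W₁ W₂ T S hp hn
  have h0 : ∀ {v}, v ∈ W₁ → v ∈ W₂ → v = 0 := fun h1 h2 => AddSubgroup.disjoint_def.1 S.compl.disjoint h1 h2
  have h1 : ∀ (W : AddSubgroup V), (∀ v ∈ W, v ∈ W₁ ∨ v ∈ W₂) → ∀ g,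
      (∀ v ∈ W, ρ g v ∈ W₁) ∨ ∀ v ∈ W, ρ g v ∈ W₂ := fun W hW g => by
    have k : ∀ v ∈ W, ρ g v ∈ W₁ ∨ ρ g v ∈ W₂ := fun v hv => by
      by_cases e : v = 0
      · rw [e, map_zero]; exact Or.inl W₁.zero_mem
      · exact ((S.orb_eq v e (hW v hv) _).1 ⟨g, rfl⟩).2
    by_contra hc
    push Not at hc
    obtain ⟨⟨x, hx, x1⟩, y, hy, y1⟩ := hc
    rcases k _ (W.add_mem hx hy) with e | e <;> rw [map_add] at e
    · exact x1 ((W₁.add_mem_cancel_right ((k y hy).resolve_right y1)).1 e)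
    · exact y1 ((W₂.add_mem_cancel_left ((k x hx).resolve_left x1)).1 e)
  have h2 := h1 W₁ fun _ => Or.inl
  obtain ⟨⟨w₁, hw₁⟩, n1⟩ := AddSubgroup.ne_bot_iff_exists_ne_zero.1 S.ne1
  obtain ⟨⟨w₂, hw₂⟩, n2⟩ := AddSubgroup.ne_bot_iff_exists_ne_zero.1 S.ne2
  replace n1 : w₁ ≠ 0 := fun e => n1 (Subtype.ext e)
  replace n2 : w₂ ≠ 0 := fun e => n2 (Subtype.ext e)
  obtain ⟨g₀, e₀⟩ := (S.orb_eq w₂ n2 (Or.inr hw₂) w₁).2 ⟨n1, Or.inl hw₁⟩
  have h3 : ∀ v ∈ W₂, ρ g₀ v ∈ W₁ := (h1 W₂ (fun _ => Or.inr) g₀).resolve_right fun k => n1 (h0 hw₁ (e₀ ▸ k _ hw₂))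
  obtain ⟨m, -, hm⟩ := exists_card_eq T.prime T.card W₁
  have h4 : Nat.card W₂ ≤ Nat.card W₁ := Nat.card_le_card_of_injective (fun v => (⟨_, h3 v v.2⟩ : W₁)) fun a b e =>
    Subtype.ext (by rw [← end_inv_apply ρ g₀ a, show ρ g₀ a = ρ g₀ b from congrArg Subtype.val e, end_inv_apply])
  have h5 : Nat.card V ≤ Nat.card (W₁ × W₂) := Nat.card_le_card_of_surjective (fun x => x.1.1 + x.2.1) fun v => by
    obtain ⟨a, ha, b, hb, e⟩ := AddSubgroup.mem_sup.1 (S.compl.sup_eq_top.ge (AddSubgroup.mem_top v))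
    exact ⟨⟨⟨a, ha⟩, ⟨b, hb⟩⟩, e⟩
  have h6 : n ≤ m + m := by
    rw [← Nat.pow_le_pow_iff_right T.prime.one_lt, pow_add, ← T.card, ← hm]
    exact h5.trans (by rw [Nat.card_prod]; exact Nat.mul_le_mul_left _ h4)
  let H : Subgroup G :=
    { carrier := {g | ∀ v ∈ W₁, ρ g v ∈ W₁}
      one_mem' := fun v hv => by rw [map_one]; exact hv
      mul_mem' := fun ha hb v hv => by rw [end_mul_apply]; exact ha _ (hb v hv)
      inv_mem' := fun {g} hg => (h2 g⁻¹).resolve_right fun k =>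
        n1 (h0 hw₁ (end_inv_apply ρ g w₁ ▸ k _ (hg _ hw₁))) }
  have h7 : H.index ∣ 2 := Subgroup.index_dvd_two_iff'.2 ⟨g₀, fun b => (h2 b).symm.imp_left fun k v hv => by
    rw [end_mul_apply]; exact h3 _ (k v hv)⟩
  have hH : ∀ g ∈ H, ∀ v ∈ W₁, ρ g v ∈ W₁ := fun _ hg => hg
  have T' := T.res hH hm
  have h8 : Tr (quo (resRep ρ H W₁ hH)) p m := ⟨T.prime, T'.inj, fun v w hv hw => by
    have hw' : (w : V) ≠ 0 := fun e => hw (Subtype.ext e)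
    obtain ⟨g, e⟩ := (S.orb_eq v (fun e => hv (Subtype.ext e)) (Or.inl v.2) w).2 ⟨hw', Or.inl w.2⟩
    exact ⟨(⟨g, (h2 g).resolve_right fun k => hw' (h0 w.2 (e ▸ k _ v.2))⟩ : H), Subtype.ext e⟩,
    hm, by omega, T'.cop, T'.exp⟩
  have h9 := kPi_le_of_surjective Set.univ _ (QuotientGroup.mk'_surjective (resRep ρ H W₁ hH).ker)
  rw [kPi_univ, kPi_univ] at h9
  have h10 := (Cfsg.Agent.S4200.result H).1.trans (Nat.mul_le_mul_right _ (Nat.le_of_dvd two_pos h7))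
  have h11 := T.prime.eq_two_or_odd.resolve_left hp
  rcases h8.lower with k | k | k <;> omega

end CL.Rk3L
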