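import Cfsg.Agent.R3.Defs

/-! Linear groups of order prime to the characteristic with two orbits on non-zero vectors (S4881):
the assembly of the lower bound for the class number. -/

set_option autoImplicit false
set_option linter.unusedSectionVars false

open Cfsg CL.Perm CL.PT CL.Fgs

namespace CL.Rk3L

universe u

theorem mn_lt {p n c : ℕ} (hp : 11 ≤ p) (h : c < 11 ^ n) : p * c + 1 < p ^ (n + 1) := by
  have h1 := Nat.pow_le_pow_left hp n
  rw [pow_succ']
  nlinarith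

theorem mn_a (n : ℕ) (hn : 2 ≤ n) : (n + 1) ^ 2 < 11 ^ n := by
  induction n, hn using Nat.le_induction with
  | base => norm_num
  | succ n hn ih => rw [pow_succ 11]; nlinarith

theorem mn_b (m : ℕ) (hm : 2 ≤ m) : (60 * (m + 1)) ^ 2 < 11 ^ (2 * m + 1) := by
  induction m, hm using Nat.le_induction with
  | base => norm_num
  | succ n hn ih => rw [show 2 * (n + 1) + 1 = 2 * n + 1 + 2 by ring, pow_add 11]; nlinarith

theorem mn_c (n : ℕ) (hn : 3 ≤ n) : 2 * (n + 1) * (n + 1 + 1) * (2 * (n + 1) + 1) < 11 ^ n := by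
  induction n, hn using Nat.le_induction with
  | base => norm_num
  | succ n hn ih => rw [pow_succ 11]; nlinarith [Nat.mul_le_mul hn hn, Nat.mul_le_mul hn (Nat.mul_le_mul hn hn)]

theorem mn_le {M c : ℕ} (h0 : M ≠ 0) (hc : 1 ≤ c) (h : ∀ r, r.Prime → r ∣ M → r = c ∧ ¬ r ^ 2 ∣ M) :
    M ≤ c := by
  have h1 := Nat.eq_prime_pow_of_unique_prime_dvd (p := c) h0 fun {d} h1 h2 => (h d h1 h2).1
  generalize M.primeFactorsList.length = j at h1
  by_cases hM : M = 1
  · omega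
  obtain ⟨r, hr, hrm⟩ := Nat.exists_prime_and_dvd hM
  obtain ⟨rfl, h2⟩ := h r hr hrm
  have h3 : j ≤ 1 := by
    by_contra h3
    exact h2 (h1 ▸ pow_dvd_pow r (by omega))
  exact h1 ▸ (Nat.pow_le_pow_right hr.pos h3).trans (pow_one r).le

variable {G V : Type u} [Group G] [Finite G] [AddCommGroup V] [Finite V]
  {ρ : G →* AddMonoid.End V} {p n : ℕ} {v₁ v₂ : V}

theorem mn_idx (T : Rk ρ p n v₁ v₂) (B : Subgroup G) [IsMulCommutative B] {c : ℕ} (hc : B.index ≤ c)
    (h : p * c ^ 2 + 1 < p ^ n) : p + 1 ≤ 2 * kk(G) := by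
  by_contra hk
  have h1 := card_le_k_mul_index B
  have h2 := T.pow_le
  rw [← B.card_mul_index] at h2
  have h3 : Nat.card B * B.index ≤ kk(G) * c * c :=
    Nat.mul_le_mul (h1.trans (Nat.mul_le_mul_left _ hc)) hc
  have h4 : 2 * kk(G) * (c * c) ≤ p * (c * c) := Nat.mul_le_mul_right _ (by omega)
  nlinarith

/-- A non-trivial normal subgroup for a primitive prime. -/
theorem mn_ab (hD : DICH.{u}) (hI : IMP.{u}) (T : Rk ρ p n v₁ v₂) (hp : 11 ≤ p) {m r : ℕ}
    (hr : PPD p m r) (hm : 3 ≤ m) (hn : n = m ∨ n = 2 * m) (h : pCore r G ≠ ⊥) : p + 1 ≤ 2 * kk(G) := by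
  have := Fact.mk hr.1
  have := Fact.mk T.prime
  have := T.nontrivial
  have := (Subgroup.nontrivial_iff_ne_bot _).2 h
  have := (CL.Grp.pCore_isPGroup r G).center_nontrivial
  let A := (Subgroup.center (pCore r G)).map (pCore r G).subtype
  have hA : r ∣ Nat.card A := by
    rw [Subgroup.card_map_of_injective Subtype.val_injective]
    obtain ⟨j, hj, e⟩ := ((CL.Grp.pCore_isPGroup r G).to_subgroup
      (Subgroup.center _)).nontrivial_iff_card.1 inferInstance
    exact e ▸ dvd_pow_self r hj.ne'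
  rcases hD G V ρ p n v₁ v₂ T A with ⟨K, _, _, _, ι, σ, k, D, hK, hk, hc⟩ | ⟨W₁, W₂, S, hW⟩
  · have h1 : m ≤ k := by
      by_contra h1
      exact hr.2.2 k (Nat.pos_of_ne_zero (by rintro rfl; omega)) (by omega)
        (hA.trans (hK ▸ D.card_dvd))
    have h2 : Module.finrank K V ≤ 2 := by
      by_contra h2
      have := Nat.mul_le_mul h1 (show 3 ≤ Module.finrank K V by omega)
      omega
    obtain ⟨B, hB, h3, h4⟩ := T.toLin.cent_le_two D h2
    have h5 : σ.ker.index ≤ k := Nat.le_of_dvd (by omega) (D.ker_eq ▸ D.index_dvd hK)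
    have h6 : (B.map σ.ker.subtype).index = B.index * σ.ker.index := Subgroup.index_map_subtype B
    by_cases hd : Module.finrank K V ≤ 1
    · rw [h3 hd, Subgroup.index_top, one_mul, ← h3 hd] at h6
      obtain ⟨n, rfl⟩ : ∃ j, n = j + 1 := ⟨n - 1, by omega⟩
      refine mn_idx T (B.map σ.ker.subtype) (c := n + 1) ?_ (mn_lt hp (mn_a n (by omega)))
      exact h6 ▸ h5.trans (Nat.le_of_dvd n.succ_pos (Dvd.intro _ hk))
    · rw [show Module.finrank K V = 2 by omega] at hk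
      obtain ⟨m, rfl⟩ : ∃ j, m = j + 1 := ⟨m - 1, by omega⟩
      obtain rfl : n = 2 * m + 1 + 1 := by omega
      refine mn_idx T (B.map σ.ker.subtype) (c := 60 * (m + 1)) ?_ (mn_lt hp (mn_b m (by omega)))
      refine h6 ▸ Nat.mul_le_mul ?_ (by omega)
      rcases h4 with h4 | h4 | h4 | h4
      · exact (Nat.le_of_dvd two_pos h4).trans (by norm_num)
      all_goals omega
  · rcases hn with rfl | rfl
    · obtain ⟨x, hx⟩ := exists_prime_orderOf_dvd_card' (G := A) r hA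
      rcases T.toLin.irr_of_ppd hr ((Subgroup.orderOf_coe x).trans hx) W₁
        (fun a ha => hW a (Subgroup.zpowers_le.2 x.2 ha)) with e | e
      · exact absurd e S.ne1
      · exact absurd (top_disjoint.1 (e ▸ S.compl.disjoint)) S.ne2
    · exact hI G V ρ p _ W₁ W₂ T.toLin S (by omega) (by omega)

variable (hD : DICH.{u}) (hI : IMP.{u}) (hF : FT.{u}) (hU : UE.{u})
include hD hI hF hU

/-- The primes dividing a primitive divisor of both orbit lengths. -/
theorem mn_pr (T : Rk ρ p n v₁ v₂) (hp : 11 ≤ p) (hk : ¬ p + 1 ≤ 2 * kk(G)) {m M : ℕ} (hm : 3 ≤ m)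
    (hn : n = m ∨ n = 2 * m) (h1 : M ∣ p ^ m - 1) (h2 : ∀ i, 1 ≤ i → i < m → M.Coprime (p ^ i - 1))
    (ha : M ∣ (orb ρ v₁).ncard) (hb : M ∣ (orb ρ v₂).ncard) {r : ℕ} (hr : r.Prime) (h : r ∣ M) :
    (∃ c, 1 ≤ c ∧ r = m * c + 1) ∧ r ≤ 2 * n + 1 ∧ (r = 2 * n + 1 → n = 3) ∧
      ∀ e b, r ^ e ∣ M → n ≤ r ^ b → e ≤ b := by
  have hP : PPD p m r := ⟨hr, h.trans h1, fun i a b c =>
    hr.one_lt.ne' (Nat.eq_one_of_dvd_coprimes (h2 i a b) h c)⟩
  have h3 : pCore r G = ⊥ := by_contra fun e => hk (mn_ab hD hI T hp hP hm hn e)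
  obtain ⟨c, hc⟩ := (dvd_sub_one_of_primitive r p m hr T.prime.pos (by omega) hP.2.1 hP.2.2).2
  have h4 := hr.two_le
  have hc0 : 1 ≤ c := Nat.pos_of_ne_zero (by rintro rfl; omega)
  have h5 := Nat.mul_le_mul hm hc0
  obtain ⟨h6, h7⟩ := hF G V ρ p n r T.toLin hr ((h.trans ha).trans (ncard_orb_dvd ρ v₁)) h3
  refine ⟨⟨c, hc0, by omega⟩, h6, fun e => by_contra fun h8 => ?_, fun e b h8 h9 =>
    hU G V ρ p n m r e b T.toLin hP (by omega) T.pos (by omega) h3 h9 fun v hv => ?_⟩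
  · have h9 := h7 e (by omega)
    obtain ⟨n, rfl⟩ : ∃ j, n = j + 1 := ⟨n - 1, by omega⟩
    have h10 := mn_lt hp (mn_c n (by omega))
    have h11 := T.pow_le
    have h12 := Nat.mul_le_mul_right (2 * (n + 1) * (n + 1 + 1) * (2 * (n + 1) + 1))
      (show 2 * kk(G) ≤ p by omega)
    nlinarith
  · rcases T.orb_eq hv with e | e <;> rw [e]
    exacts [h8.trans ha, h8.trans hb]

theorem mn_N (T : Rk ρ p n v₁ v₂) (hp : 11 ≤ p) (hn : 3 ≤ n)
    (h : ∀ M, M ∣ p ^ n - 1 → (∀ i, 1 ≤ i → i < n → M.Coprime (p ^ i - 1)) →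
      M ∣ (orb ρ v₁).ncard ∧ M ∣ (orb ρ v₂).ncard) : p + 1 ≤ 2 * kk(G) := by
  by_contra hk
  obtain ⟨M, h1, h2, h3⟩ := exists_large_primitive_divisor p n T.prime.two_le hn (by
    simp only [zsigExc, List.mem_cons, Prod.mk.injEq, List.not_mem_nil, or_false]
    omega)
  have key : ∀ r, r.Prime → r ∣ M → (r = n + 1 ∨ r = 2 * n + 1 ∧ n = 3) ∧ ¬ r ^ 2 ∣ M := by
    intro r hr hd
    obtain ⟨⟨c, h4, h5⟩, h6, h7, h8⟩ :=
      mn_pr hD hI hF hU T hp hk hn (.inl rfl) h1 h2 (h M h1 h2).1 (h M h1 h2).2 hr hd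
    have h9 : c ≤ 2 := by
      by_contra h9
      have := Nat.mul_le_mul_left n (show 3 ≤ c by omega)
      omega
    have h10 := Nat.mul_le_mul_left n h4
    refine ⟨?_, fun e => absurd (h8 2 1 e (by rw [pow_one]; omega)) (by norm_num)⟩
    interval_cases c
    · left; omega
    · exact .inr ⟨by omega, h7 (by omega)⟩
  by_cases h4 : n = 3
  · subst h4
    have := mn_le (c := 7) (by omega) (by norm_num) fun r hr hd => (key r hr hd).imp_left fun e =>
      e.elim (fun e => absurd (e ▸ hr) (by norm_num)) fun e => e.1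
    omega
  · have := mn_le (c := n + 1) (by omega) (by omega) fun r hr hd => (key r hr hd).imp_left fun e =>
      e.resolve_right fun e => h4 e.2
    omega

theorem mn_L (hN : NUM) (hC : CC.{u}) {m : ℕ} (T : Rk ρ p (2 * m) v₁ v₂) (hp : 11 ≤ p) (hm : 3 ≤ m)
    (ha : p ^ m - 1 ∣ (orb ρ v₁).ncard) (hb : p ^ m - 1 ∣ (orb ρ v₂).ncard) : p + 1 ≤ 2 * kk(G) := by
  by_contra hk
  obtain ⟨M, h1, h2, h3⟩ := exists_primitive_divisor_bound p m T.prime.two_le hm
  obtain ⟨rfl, h4⟩ := hN p m M T.prime hp hm h1 h2 h3 fun r hr hd => by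
    obtain ⟨⟨c, h4, h5⟩, h6, h7, h8⟩ :=
      mn_pr hD hI hF hU T hp hk hm (.inr rfl) h1 h2 (h1.trans ha) (h1.trans hb) hr hd
    have h9 : c ≤ 3 := by
      by_contra h9
      have := Nat.mul_le_mul_left m (show 4 ≤ c by omega)
      omega
    have h10 := Nat.mul_le_mul_left m h4
    refine ⟨?_, fun e => absurd (h8 3 2 e (by nlinarith)) (by norm_num), fun e => by_contra fun h11 =>
      absurd (h8 2 1 e ?_) (by norm_num)⟩
    · interval_cases c <;> omega
    · rw [pow_one]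
      interval_cases c <;> omega
  have key : ∀ t, t.Prime → t ∣ p ^ 6 - 1 → t + 2 * 6 ≤ 2 * 6 * kk(G) + 1 := fun t ht hd =>
    hC G V ρ p _ t T.toLin ht ((hd.trans ha).trans (ncard_orb_dvd ρ v₁))
  rcases h4 with rfl | rfl | rfl
  · have := key 307 (by norm_num) (by norm_num); omega
  · have := key 127 (by norm_num) (by norm_num); omega
  · have := key 331 (by norm_num) (by norm_num); omega

theorem main (hS : SRG.{u}) (hT : CNT.{u}) (hC : CC.{u}) (hM : SM.{u}) (hN : NUM) (h2 : TWO.{u}) :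
    MAIN.{u} := by
  intro G V _ _ _ _ ρ p n v₁ v₂ T hp2
  refine or_iff_not_imp_left.2 fun hn1 => ?_
  have hpos := T.pos
  by_cases hp7 : p ≤ 7
  · exact hM G V ρ p n v₁ v₂ T hp2 hp7 (by omega)
  have hodd := T.prime.eq_two_or_odd.resolve_left hp2
  have hp : 11 ≤ p := by
    have : p ≠ 9 := fun e => absurd (e ▸ T.prime) (by norm_num)
    omega
  by_cases hn2 : n = 2
  · subst hn2
    exact h2 G V ρ p v₁ v₂ T hp
  by_cases hab : (orb ρ v₁).ncard = (orb ρ v₂).ncard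
  · refine mn_N hD hI hF hU T hp (by omega) fun M h3 h4 => ?_
    have h5 : M.Coprime 2 := (h4 1 le_rfl (by omega)).coprime_dvd_right (by rw [pow_one]; omega)
    have h6 := T.sum
    rw [show p ^ n - 1 = 2 * (orb ρ v₁).ncard by omega] at h3
    exact ⟨h5.dvd_of_dvd_mul_left h3, hab ▸ h5.dvd_of_dvd_mul_left h3⟩
  by_cases hn4 : n ≤ 4
  · have := hT G V ρ p n v₁ v₂ T hab
    interval_cases n <;> omega
  obtain ⟨m, rfl, ⟨h3, h4⟩ | ⟨h3, h4⟩⟩ := hS G V ρ p n v₁ v₂ T hab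
  · exact mn_L hD hI hF hU hN hC T hp (by omega) h3 h4
  · refine mn_N hD hI hF hU T hp (by omega) fun M h5 h6 => ?_
    have h7 : p ^ (2 * m) - 1 = (p ^ m + 1) * (p ^ m - 1) := by
      rw [← Nat.sq_sub_sq, one_pow, ← pow_mul, mul_comm]
    have h8 := (h6 m (by omega) (by omega)).dvd_of_dvd_mul_right (h7 ▸ h5)
    exact ⟨h8.trans h3, h8.trans h4⟩

end CL.Rk3L
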