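import Cfsg.Agent.R3.Defs

/-! Project R3 (S4881): the arithmetic step. -/

set_option autoImplicit false

open Cfsg CL.Perm CL.PT CL.Fgs

namespace CL.Rk3L

private def numTot (n : ℕ) : ℕ := ((List.range n).filter (fun i => Nat.gcd n i == 1)).length

private def numOk (p m x : ℕ) : Bool :=
  (p ^ m - 1) % x == 0 && (List.range m).all (fun i => i == 0 || Nat.gcd x (p ^ i - 1) == 1)

private def numT (p m x : ℕ) : ℕ := if numOk p m x then x else 1

private def numT2 (p m x : ℕ) : ℕ := if numOk p m (x ^ 2) then x ^ 2 else numT p m x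

private def numB (m : ℕ) : ℕ := (m + 1) ^ 2 * (2 * m + 1) * (3 * m + 1)

private def numChk (m f : ℕ) : Bool :=
  m < 3 || 4 * (numB m * m) < 11 ^ f || (4 * (numB m * m) < 539 ^ f && (List.range 539).all fun p =>
    p < 11 || 4 * (numB m * m) < p ^ f || 4 * (numT2 p m (m + 1) * numT p m (2 * m + 1) * numT p m (3 * m + 1) * m) < p ^ f
      || p % 2 == 0 || p % 3 == 0 || (m == 6 && (p == 17 || p == 19 || p == 31)))

private theorem num_chk : (List.range 339).all (fun m => numChk m (numTot m)) = true := by decide +kernel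

private theorem num_big (t : ℕ) (ht : 14 ≤ t) : 24 * (2 * t ^ 2 + 1) ^ 5 < 11 ^ t := by
  induction t, ht using Nat.le_induction with
  | base => norm_num
  | succ t ht ih =>
    have h1 : 2 * (2 * (t + 1) ^ 2 + 1) ≤ 3 * (2 * t ^ 2 + 1) := by nlinarith
    have h2 := Nat.pow_le_pow_left h1 5
    rw [mul_pow, mul_pow] at h2
    rw [pow_succ 11 t]
    generalize (2 * (t + 1) ^ 2 + 1) ^ 5 = a at *
    generalize (2 * t ^ 2 + 1) ^ 5 = b at *
    omega

private theorem numOk_of {p m M x : ℕ} (h1 : M ∣ p ^ m - 1) (h2 : ∀ i, 1 ≤ i → i < m → Nat.Coprime M (p ^ i - 1))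
    (hx : x ∣ M) : numOk p m x = true := by
  simp only [numOk, Bool.and_eq_true, beq_iff_eq, List.all_eq_true, List.mem_range, Bool.or_eq_true]
  refine ⟨Nat.mod_eq_zero_of_dvd (hx.trans h1), fun i hi => ?_⟩
  rcases Nat.eq_zero_or_pos i with e | e
  · exact Or.inl e
  · exact Or.inr ((h2 i e hi).coprime_dvd_left hx)

private theorem numT_le (p m x : ℕ) (hx : 1 ≤ x) : 1 ≤ numT p m x ∧ numT p m x ≤ x := by
  unfold numT
  split_ifs <;> omega

private theorem numT2_le (p m x : ℕ) (hx : 1 ≤ x) : 1 ≤ numT2 p m x ∧ numT2 p m x ≤ x ^ 2 := by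
  have := numT_le p m x hx
  unfold numT2
  split_ifs
  · exact ⟨Nat.one_le_pow _ _ hx, le_rfl⟩
  · exact ⟨this.1, this.2.trans (Nat.le_self_pow (by norm_num) x)⟩

theorem num : NUM := by
  intro p m M hp h11 h3 hd hc hle hr
  have hT : ∀ x, x ∣ M → numT p m x = x := fun x hx => if_pos (numOk_of hd hc hx)
  have hT2 : ∀ x, x ∣ M → x ∣ numT2 p m x := fun x hx => by
    unfold numT2
    split_ifs
    · exact dvd_pow_self x (by norm_num)
    · rw [hT x hx]
  have hdvd : M ∣ numT2 p m (m + 1) * numT p m (2 * m + 1) * numT p m (3 * m + 1) := by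
    refine (Nat.dvd_iff_prime_pow_dvd_dvd _ _).2 fun r j hr' hj => ?_
    rcases Nat.eq_zero_or_pos j with rfl | hj0
    · simp
    have h1 : r ∣ M := (dvd_pow_self r hj0.ne').trans hj
    obtain ⟨h4, h5, h6⟩ := hr r hr' h1
    have h7 : j < 3 := by
      by_contra h8
      exact h5 ((pow_dvd_pow r (not_lt.1 h8)).trans hj)
    obtain rfl | rfl : j = 1 ∨ j = 2 := by omega
    · rw [pow_one]
      rcases h4 with rfl | rfl | rfl
      · exact ((hT2 _ h1).mul_right _).mul_right _
      · rw [hT _ h1]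
        exact (Dvd.intro_left _ rfl).mul_right _
      · rw [hT _ h1]
        exact Dvd.intro_left _ rfl
    · obtain rfl := h6 hj
      rw [show numT2 p m (m + 1) = (m + 1) ^ 2 from if_pos (numOk_of hd hc hj)]
      exact (Dvd.intro _ rfl).mul_right _
  obtain ⟨a1, a2⟩ := numT2_le p m (m + 1) (by omega)
  obtain ⟨b1, b2⟩ := numT_le p m (2 * m + 1) (by omega)
  obtain ⟨c1, c2⟩ := numT_le p m (3 * m + 1) (by omega)
  have e1 : p ^ m.totient ≤ 4 * (numT2 p m (m + 1) * numT p m (2 * m + 1) * numT p m (3 * m + 1) * m) :=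
    hle.trans (by gcongr; exact Nat.le_of_dvd (by positivity) hdvd)
  have e2 : p ^ m.totient ≤ 4 * (numB m * m) := e1.trans (by unfold numB; gcongr)
  have e3 : 11 ^ m.totient ≤ 4 * (numB m * m) := (Nat.pow_le_pow_left h11 _).trans e2
  have hm : m < 339 := by
    have h1 := le_two_mul_totient_sq m
    have h2 : m.totient < 14 := by
      by_contra h4
      have h5 := num_big _ (not_lt.1 h4)
      have h6 : 4 * (numB m * m) ≤ 24 * (m + 1) ^ 5 := by
        calc 4 * (numB m * m) ≤ 4 * ((m + 1) ^ 2 * (2 * (m + 1)) * (3 * (m + 1)) * (m + 1)) := by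
              unfold numB; gcongr <;> omega
          _ = _ := by ring
      have h7 : (m + 1) ^ 5 ≤ (2 * m.totient ^ 2 + 1) ^ 5 := Nat.pow_le_pow_left (by omega) 5
      omega
    have h4 : m.totient ^ 2 ≤ 13 ^ 2 := Nat.pow_le_pow_left (by omega) 2
    omega
  have h := List.all_eq_true.1 num_chk m (List.mem_range.2 hm)
  rw [show numTot m = m.totient from (totient_eq_filter_length m).symm] at h
  simp only [numChk, Bool.or_eq_true, Bool.and_eq_true, decide_eq_true_eq, List.all_eq_true, List.mem_range,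
    beq_iff_eq] at h
  rcases h with (h | h) | ⟨h, h'⟩
  · omega
  · omega
  have hp' : p < 539 := lt_of_pow_lt_pow_left₀ _ (by norm_num) (e2.trans_lt h)
  rcases h' p hp' with ((((h1 | h1) | h1) | h1) | h1) | ⟨h1, h2⟩
  · omega
  · omega
  · omega
  · have := (Nat.prime_dvd_prime_iff_eq Nat.prime_two hp).1 (Nat.dvd_of_mod_eq_zero h1)
    omega
  · have := (Nat.prime_dvd_prime_iff_eq Nat.prime_three hp).1 (Nat.dvd_of_mod_eq_zero h1)
    omega
  · exact ⟨h1, or_assoc.1 h2⟩

end CL.Rk3L
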