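import Cfsg.Agent.R3.Defs

/-! Orbit lengths of a rank three affine group with different subdegrees, by additive characters. -/

set_option autoImplicit false

open Cfsg CL.Perm CL.PT CL.Fgs

namespace CL.Rk3L

universe u

section

variable {G : Type*} [Group G] [Finite G] {V : Type u} [AddCommGroup V] {ρ : G →* AddMonoid.End V} {p n : ℕ}
  {v₁ v₂ : V}

omit [Finite G] in
private theorem srg_pow [Finite V] (T : Lin ρ p n) (ψ : AddChar V ℂ) (v : V) : ψ v ^ p = 1 := by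
  rw [← AddChar.map_nsmul_eq_pow, T.exp, AddChar.map_zero_eq_one]

private theorem srg_ne [Finite V] (T : Lin ρ p n) {ψ : AddChar V ℂ} {v : V} (h : ψ v ≠ 1) (K : Subgroup G) :
    ψ v ^ Nat.card K ≠ 1 := fun e => h (orderOf_eq_one_iff.1 (Nat.eq_one_of_dvd_coprimes
  ((Nat.Prime.coprime_iff_not_dvd T.prime).2 fun h => T.cop (h.trans K.card_subgroup_dvd_card))
  (orderOf_dvd_of_pow_eq_one (srg_pow T ψ v)) (orderOf_dvd_of_pow_eq_one e)))

/-- an invariant set of non-trivial characters of the size of the smaller orbit -/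
private theorem srg_dual [Finite V] (T : Rk ρ p n v₁ v₂) (h : (orb ρ v₁).ncard < (orb ρ v₂).ncard) :
    ∃ O : Finset (AddChar V ℂ), O.card = (orb ρ v₁).ncard ∧ 0 ∉ O ∧
      ∀ (g : G) (v : V), ∑ ψ ∈ O, ψ (ρ g v) = ∑ ψ ∈ O, ψ v := by
  classical
  have := Fintype.ofFinite G
  let _ : MulAction G (AddChar V ℂ) :=
    { smul := fun g ψ => ψ.compAddMonoidHom (ρ g⁻¹)
      one_smul := fun ψ => AddChar.ext _ _ fun v => by
        change ψ (ρ 1⁻¹ v) = ψ v
        rw [inv_one, map_one]; rfl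
      mul_smul := fun a b ψ => AddChar.ext _ _ fun v => by
        change ψ (ρ (a * b)⁻¹ v) = ψ (ρ b⁻¹ (ρ a⁻¹ v))
        rw [mul_inv_rev, end_mul_apply] }
  have hs : ∀ (g : G) (ψ : AddChar V ℂ) (v : V), (g • ψ) v = ψ (ρ g⁻¹ v) := fun _ _ _ => rfl
  obtain ⟨ψ, hψ⟩ := AddChar.exists_apply_ne_zero.2 T.ne1
  let ψ₁ : AddChar V ℂ := ∑ g : stab ρ v₁, ψ.compAddMonoidHom (ρ g)
  have h1 : ∀ x, ψ₁ x = ∏ g : stab ρ v₁, ψ (ρ g x) := fun x => AddChar.sum_apply _ _ _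
  have h2 : ψ₁ v₁ ≠ 1 := by
    rw [h1, Finset.prod_congr rfl fun (g : stab ρ v₁) _ => congrArg ψ (mem_stab.1 g.2), Finset.prod_const,
      Finset.card_univ, ← Nat.card_eq_fintype_card]
    exact srg_ne T.toLin hψ _
  have h3 : stab ρ v₁ ≤ MulAction.stabilizer G ψ₁ := fun k hk => AddChar.ext _ _ fun x => by
    rw [hs, h1, h1]
    exact Fintype.prod_equiv (Equiv.mulRight (⟨k, hk⟩ : stab ρ v₁)⁻¹) _ _ fun g => by
      rw [← end_mul_apply]; rfl
  let v : V := ∑ g : MulAction.stabilizer G ψ₁, ρ g v₁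
  have h4 : v ≠ 0 := fun e => by
    have h5 : ∀ g : MulAction.stabilizer G ψ₁, ψ₁ (ρ g v₁) = ψ₁ v₁ := fun g => by
      have h6 : (g : G)⁻¹ • ψ₁ = ψ₁ := (MulAction.stabilizer G ψ₁).inv_mem g.2
      rw [← inv_inv (g : G), ← hs, h6]
    have h6 : ψ₁ v = ∏ g : MulAction.stabilizer G ψ₁, ψ₁ (ρ g v₁) := map_prod ψ₁.toMonoidHom
      (fun g : MulAction.stabilizer G ψ₁ => Multiplicative.ofAdd (ρ g v₁)) Finset.univ
    rw [e, AddChar.map_zero_eq_one, Finset.prod_congr rfl fun g _ => h5 g, Finset.prod_const,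
      Finset.card_univ, ← Nat.card_eq_fintype_card] at h6
    exact srg_ne T.toLin h2 _ h6.symm
  have h5 : MulAction.stabilizer G ψ₁ ≤ stab ρ v := fun k hk => mem_stab.2 (by
    rw [map_sum]
    exact Fintype.sum_equiv (Equiv.mulLeft (⟨k, hk⟩ : MulAction.stabilizer G ψ₁)) _ _ fun g => by
      rw [← end_mul_apply]; rfl)
  have h6 := Nat.le_of_dvd (Nat.pos_of_ne_zero Subgroup.index_ne_zero_of_finite) (Subgroup.index_dvd_of_le h3)
  have h7 := Nat.le_of_dvd (Nat.pos_of_ne_zero Subgroup.index_ne_zero_of_finite) (Subgroup.index_dvd_of_le h5)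
  rw [← ncard_orb, MulAction.index_stabilizer] at h6 h7
  refine ⟨(MulAction.orbit G ψ₁).toFinset, ?_, fun e => ?_, fun g x => ?_⟩
  · rw [← Set.ncard_eq_toFinset_card']
    rcases T.orb_eq h4 with e | e <;> rw [e] at h7 <;> omega
  · obtain ⟨g, hg⟩ := Set.mem_toFinset.1 e
    have := hs g ψ₁ (ρ g v₁)
    rw [end_inv_apply, show g • ψ₁ = 0 from hg] at this
    exact h2 this.symm
  · refine Finset.sum_bijective (g⁻¹ • ·) (MulAction.bijective g⁻¹) (fun φ => ?_) fun φ _ => by rw [hs, inv_inv]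
    simp only [Set.mem_toFinset]
    exact ⟨fun h => MulAction.mem_orbit_of_mem_orbit _ h, fun h => by
      simpa using MulAction.mem_orbit_of_mem_orbit g h⟩

private theorem srg_sum [Fintype V] (T : Rk ρ p n v₁ v₂) {f : V → ℂ} (hf : ∀ (g : G) (v : V), f (ρ g v) = f v) :
    ∑ v, f v = f 0 + (orb ρ v₁).ncard * f v₁ + (orb ρ v₂).ncard * f v₂ := by
  classical
  have h1 : ∀ w, ∑ v ∈ (orb ρ w).toFinset, f v = (orb ρ w).ncard * f w := fun w => by
    rw [Finset.sum_congr rfl fun v hv => (show f v = f w by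
      obtain ⟨g, rfl⟩ := Set.mem_toFinset.1 hv
      exact hf g w), Finset.sum_const, nsmul_eq_mul, Set.ncard_eq_toFinset_card']
  rw [← Finset.add_sum_erase _ _ (Finset.mem_univ 0), ← h1, ← h1, add_assoc, ← Finset.sum_union
    (Set.disjoint_toFinset.2 (Set.disjoint_left.2 fun _ => T.not_mem)), ← Set.toFinset_union]
  congr 2
  ext v
  simp [T.union]

private theorem srg_lt [Finite V] (T : Rk ρ p n v₁ v₂) (h : (orb ρ v₁).ncard < (orb ρ v₂).ncard) :
    ∃ β : ℤ, (((orb ρ v₁).ncard + (orb ρ v₂).ncard) * β + (orb ρ v₁).ncard) ^ 2 = (orb ρ v₂).ncard ^ 2 * p ^ n := by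
  classical
  have := Fintype.ofFinite V
  obtain ⟨O, h1, h2, h3⟩ := srg_dual T h
  set a := (orb ρ v₁).ncard
  set b := (orb ρ v₂).ncard
  set f : V → ℂ := fun v => ∑ ψ ∈ O, ψ v with hf
  have h4 : ∀ c, ¬ p ∣ c → ∀ v, f (c • v) = f v := fun c hc v => by
    obtain ⟨g, hg⟩ := T.smul_mem h.ne hc v
    rw [← hg]; exact h3 g v
  obtain ⟨k, hk⟩ : ∃ k, p = k + 1 := ⟨_, (Nat.succ_pred_eq_of_pos T.prime.pos).symm⟩
  have hk0 : 0 < k := by have := T.prime.two_le; omega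
  have h5 : ∀ v, f (-v) = f v := fun v => by
    have e := T.exp v
    rw [hk, succ_nsmul, ← eq_neg_iff_add_eq_zero] at e
    rw [← e]
    exact h4 k (Nat.not_dvd_of_pos_of_lt hk0 (by omega)) v
  have h0 : f 0 = a := by simp [hf, h1]
  have hN : (Fintype.card V : ℂ) = a + b + 1 := by
    rw [← Nat.card_eq_fintype_card, T.card, ← T.sum]; push_cast; rfl
  have e1 : ∑ v, f v = 0 := by
    rw [hf, Finset.sum_comm]
    exact Finset.sum_eq_zero fun ψ hψ => AddChar.sum_eq_zero_iff_ne_zero.2 fun e => h2 (e ▸ hψ)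
  have e2 : ∑ v, f v * f v = a * Fintype.card V := by
    rw [Finset.sum_congr rfl fun v _ => show f v * f v = ∑ ψ ∈ O, ∑ φ ∈ O, (ψ - φ) v by
      nth_rewrite 2 [← h5]
      simp only [hf, Finset.sum_mul_sum, AddChar.sub_apply], Finset.sum_comm, ← h1, ← nsmul_eq_mul,
      ← Finset.sum_const]
    refine Finset.sum_congr rfl fun ψ hψ => ?_
    rw [Finset.sum_comm]
    simp only [AddChar.sum_eq_ite, sub_eq_zero, Finset.sum_ite_eq, hψ, if_true]
  rw [srg_sum T h3, h0] at e1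
  rw [srg_sum T (f := fun v => f v * f v) fun g v => by simp only [hf, h3], h0, hN] at e2
  obtain ⟨j, hj⟩ : ∃ j : ℕ, k * f v₁ + a = j := by
    have e3 : ∑ c ∈ Finset.range (k + 1), f (c • v₁) = k * f v₁ + a := by
      rw [Finset.sum_range_succ', zero_smul, h0, Finset.sum_congr rfl fun c hc => h4 (c + 1)
        (Nat.not_dvd_of_pos_of_lt c.succ_pos (by have := Finset.mem_range.1 hc; omega)) v₁, Finset.sum_const,
        Finset.card_range, nsmul_eq_mul]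
    refine ⟨∑ ψ ∈ O, if ψ v₁ = 1 then p else 0, ?_⟩
    rw [← e3, ← hk, hf, Finset.sum_comm, Nat.cast_sum]
    refine Finset.sum_congr rfl fun ψ _ => ?_
    simp only [AddChar.map_nsmul_eq_pow]
    split_ifs with e
    · simp [e]
    · rw [geom_sum_eq e, srg_pow T.toLin, sub_self, zero_div, Nat.cast_zero]
  obtain ⟨β, hβ⟩ : ∃ β : ℤ, f v₁ = β := by
    have e3 : f v₁ = (((j - a) / k : ℚ) : ℂ) := by
      have : (k : ℂ) ≠ 0 := Nat.cast_ne_zero.2 hk0.ne'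
      push_cast
      field_simp
      linear_combination hj
    rw [e3]
    exact CL.Char.exists_int_of_isIntegral_ratCast (e3 ▸ IsIntegral.sum _ fun ψ _ =>
      IsIntegral.of_pow T.prime.pos (srg_pow T.toLin ψ v₁ ▸ isIntegral_one))
  refine ⟨β, ?_⟩
  have ha : (a : ℂ) ≠ 0 := Nat.cast_ne_zero.2 ((Set.ncard_pos (Set.toFinite _)).2 ⟨_, mem_orb_self ρ v₁⟩).ne'
  have e3 : ((a : ℂ) + b) * β ^ 2 + 2 * a * β + a - b - b ^ 2 = 0 := mul_left_cancel₀ ha (by
    rw [hβ] at e1 e2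
    linear_combination b * e2 - (b * f v₂ - a - a * β) * e1)
  have e4 : ((p : ℂ)) ^ n = a + b + 1 := by exact_mod_cast T.sum.symm
  exact_mod_cast (show (((a : ℂ) + b) * β + a) ^ 2 = b ^ 2 * p ^ n by
    rw [e4]; linear_combination (a + b) * e3)

private theorem srg_num {a b p n : ℕ} {β : ℤ} (hp : p.Prime) (hn : 1 ≤ n) (hb : 0 < b) (hs : a + b + 1 = p ^ n)
    (h : ((a + b) * β + a) ^ 2 = b ^ 2 * p ^ n) :
    ∃ m, n = 2 * m ∧ ((p ^ m - 1 ∣ a ∧ p ^ m - 1 ∣ b) ∨ (p ^ m + 1 ∣ a ∧ p ^ m + 1 ∣ b)) := by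
  obtain ⟨w, hw⟩ : (b : ℤ) ∣ (a + b) * β + a := (Int.pow_dvd_pow_iff two_ne_zero).1 ⟨_, h⟩
  have h1 : w.natAbs ^ 2 = p ^ n := by
    rw [hw, mul_pow, mul_right_inj' (by positivity)] at h
    exact_mod_cast (Int.natAbs_sq w).trans h
  obtain ⟨m, -, hm⟩ := (Nat.dvd_prime_pow hp).1 (h1 ▸ dvd_pow_self w.natAbs two_ne_zero)
  have h2 : n = 2 * m := Nat.pow_right_injective hp.two_le (by simp only; rw [← h1, hm, ← pow_mul, mul_comm])
  have h3 : 1 < p ^ m := Nat.one_lt_pow (by omega) hp.one_lt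
  refine ⟨m, h2, ?_⟩
  rw [← h1, hm] at hs
  obtain ⟨q, hq⟩ : ∃ q, p ^ m = q + 1 := ⟨p ^ m - 1, by omega⟩
  rw [hq] at hs hm h3 ⊢
  have h4 : (b : ℤ) = q * (q + 2) - a := by
    have : ((a + b + 1 : ℕ) : ℤ) = ((q + 1) ^ 2 : ℕ) := congrArg _ hs
    push_cast at this
    linear_combination this
  have h5 : ∀ d : ℕ, (d : ℤ) ∣ q * (q + 2) → (d : ℤ) ∣ a → d ∣ a ∧ d ∣ b := fun d e1 e2 =>
    ⟨Int.natCast_dvd_natCast.1 e2, Int.natCast_dvd_natCast.1 (h4 ▸ dvd_sub e1 e2)⟩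
  rw [h4] at hw
  rcases Int.natAbs_eq_iff.1 hm with rfl | rfl
  · refine .inl (h5 q (dvd_mul_right _ _) ⟨q + 1 - β, mul_left_cancel₀ (by positivity : (q : ℤ) + 2 ≠ 0) ?_⟩)
    push_cast at hw
    linear_combination hw
  · refine .inr (h5 (q + 2) (Dvd.intro_left _ rfl) ⟨q + 1 + β, mul_left_cancel₀ (by omega : (q : ℤ) ≠ 0) ?_⟩)
    push_cast at hw ⊢
    linear_combination -hw

end

theorem srg : SRG.{u} := fun _ _ _ _ _ _ ρ _ _ v₁ v₂ T h => by
  rcases h.lt_or_gt with h | h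
  · obtain ⟨β, e⟩ := srg_lt T h
    exact srg_num T.prime T.pos (by omega) T.sum e
  · obtain ⟨β, e⟩ := srg_lt T.symm h
    obtain ⟨m, h1, h2⟩ := srg_num T.prime T.pos (by omega) T.symm.sum e
    exact ⟨m, h1, h2.imp And.symm And.symm⟩

end CL.Rk3L
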