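import Cfsg.Agent.R3.Defs
import Cfsg.Agent.S4904
import Cfsg.Agent.S4504

/-! The steps `FT` (large prime divisors of a linear group) and `TWO` (dimension two) of S4881. -/

set_option autoImplicit false

open Cfsg CL.Perm CL.PT CL.Fgs

namespace CL.Rk3L

universe u

private theorem two_card_center_le (G : Type*) [Group G] [Finite G] :
    Nat.card (Subgroup.center G) ≤ kk(G) := by
  refine Nat.card_le_card_of_injective (fun z => ConjClasses.mk (z : G)) fun a b h => ?_
  obtain ⟨c, hc⟩ := isConj_iff.1 (ConjClasses.mk_eq_mk_iff_isConj.1 h)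
  refine Subtype.ext ?_
  rw [← hc, Subgroup.mem_center_iff.1 a.2 c, mul_inv_cancel_right]

theorem ft : FT.{u} := by
  intro G V _ _ _ _ ρ p n r T hr hdiv hO
  obtain ⟨χ, hχ, hf, hd⟩ := T.exists_char
  have := Fact.mk hr
  have hker := CL.Char.charKer_eq_bot_of_faithful hf
  have hi : (pCore r G).index = Nat.card G := by rw [hO, Subgroup.index_bot]
  refine ⟨hd ▸ CL.LG.ft hχ hker (hi ▸ hdiv), fun e h3 => ?_⟩
  have hS := CL.LG.st.{u} CL.LG.dl CL.LG.bt
  have hsq := CL.LG.rat_big (p := r) CL.LG.red (CL.LG.kl1 hS) (CL.LG.fin hS) (by omega) G χ hχ hker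
    (by omega)
  rw [hi] at hsq
  obtain ⟨e'⟩ := Cfsg.Agent.S4504.result r hr hdiv hsq (fun H hH hc => by
    have h1 : H ≤ pCore r G := CL.Grp.le_pCore (IsPGroup.of_card (n := 1) (by rw [hc, pow_one]))
    rw [hO, le_bot_iff] at h1
    rw [h1, Subgroup.card_bot] at hc
    exact hr.one_lt.ne hc) χ hχ hf (by omega)
  subst e
  have hq := CL.SL2.card_psl_two_mul (F := ZMod (2 * n + 1))
    (Ring.two_ne_zero (by rw [ZMod.ringChar_zmod_n]; omega))
  rw [ZMod.card, ← Nat.card_congr e'.toEquiv] at hq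
  have hq' : Nat.card (G ⧸ Subgroup.center G) = 2 * n * (n + 1) * (2 * n + 1) := by
    have : (2 * n + 1) ^ 2 - 1 = 2 * (2 * n * (n + 1)) := Nat.sub_eq_of_eq_add (by ring)
    rw [this] at hq
    nlinarith
  rw [Subgroup.card_eq_card_quotient_mul_card_subgroup (Subgroup.center G), hq', mul_comm]
  exact Nat.mul_le_mul_right _ (two_card_center_le G)

private theorem two_aux {G V : Type u} [Group G] [Finite G] [AddCommGroup V] [Finite V]
    {ρ : G →* AddMonoid.End V} {p : ℕ} {v₁ v₂ : V} [Fact p.Prime] [Module (ZMod p) V]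
    (T : Rk ρ p 2 v₁ v₂) (hp : 11 ≤ p) : p + 1 ≤ 2 * kk(G) := by
  by_contra hk
  have : Module.Finite (ZMod p) V := Module.Finite.of_finite
  have hd : Module.finrank (ZMod p) V = 2 := by
    have h1 := Module.natCard_eq_pow_finrank (K := ZMod p) (V := V)
    rw [T.card, Nat.card_zmod] at h1
    exact (Nat.pow_right_injective T.prime.two_le h1).symm
  let f : G →* Module.End (ZMod p) V :=
    { toFun := fun g => AddMonoidHom.toZModLinearMap p (ρ g)
      map_one' := LinearMap.ext fun v => by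
        change ρ 1 v = v
        rw [map_one]; rfl
      map_mul' := fun g h => LinearMap.ext fun v => end_mul_apply ρ g h v }
  obtain ⟨Z, hZ, hs, hc, -, h⟩ := dim_two p hd f
    (fun g h e => T.inj (AddMonoidHom.ext fun v => LinearMap.congr_fun e v)) T.cop
  have hle := T.pow_le
  have hG := Subgroup.card_eq_card_quotient_mul_card_subgroup Z
  have hz : 0 < Nat.card Z := Nat.card_pos
  rcases h with ⟨B, hB, hi⟩ | ⟨⟨e⟩⟩ | ⟨⟨e⟩⟩ | ⟨⟨e⟩⟩
  · have h1 := card_le_k_mul_index B
    have h2 := B.index_mul_card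
    have h3 : B.index ≤ 2 := Nat.le_of_dvd two_pos hi
    have h4 : Nat.card G ≤ 2 * (kk(G) * 2) := by
      rw [← h2]
      exact Nat.mul_le_mul h3 (h1.trans (Nat.mul_le_mul_left _ h3))
    nlinarith
  · have h1 := k_ge_of_central Z hc e
    rw [card_A4, wt_A4] at h1
    rw [Nat.card_congr e.toEquiv, card_A4] at hG
    nlinarith
  · have h1 := k_ge_of_central Z hc e
    rw [card_S4, wt_S4] at h1
    rw [Nat.card_congr e.toEquiv, card_S4] at hG
    nlinarith
  · have h1 := k_ge_of_central Z hc e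
    rw [card_A5, wt_A5] at h1
    rw [Nat.card_congr e.toEquiv, card_A5] at hG
    have h13 : p ≤ 13 := by
      by_contra h
      nlinarith
    have hz1 : Nat.card Z = 1 := by omega
    rw [hz1] at hG
    have h11 : p = 11 := by
      by_contra h
      have : 12 ≤ p := by omega
      nlinarith
    have hsum := T.sum
    have ha := Nat.le_of_dvd Nat.card_pos (ncard_orb_dvd ρ v₁)
    have hb := Nat.le_of_dvd Nat.card_pos (ncard_orb_dvd ρ v₂)
    rw [h11] at hsum
    have hst : ∀ v, v ≠ 0 → stab ρ v = ⊥ := fun v hv => by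
      have h2 := ncard_orb_mul ρ v
      have h3 : (orb ρ v).ncard = 60 := by
        rcases T.orb_eq hv with e | e <;> rw [e] <;> omega
      rw [h3] at h2
      exact Subgroup.card_eq_one.1 (by omega)
    obtain ⟨s, hs2⟩ := exists_prime_orderOf_dvd_card' (G := G) 2 (by rw [hG]; norm_num)
    have hneg : ∀ v, ρ s v = -v := fun v => by
      by_contra h2
      have h3 : s ∈ stab ρ (ρ s v + v) := mem_stab.2 (by
        rw [map_add, ← end_mul_apply, ← sq, ← hs2, pow_orderOf_eq_one, map_one, add_comm]; rfl)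
      rw [hst _ fun e => h2 (eq_neg_of_add_eq_zero_left e), Subgroup.mem_bot] at h3
      rw [h3, orderOf_one] at hs2
      omega
    have h4 : s ∈ Z := (hs s).2 ⟨-1, fun v => by rw [neg_one_smul]; exact hneg v⟩
    rw [Subgroup.card_eq_one.1 hz1, Subgroup.mem_bot] at h4
    rw [h4, orderOf_one] at hs2
    omega

theorem two : TWO.{u} := fun _ _ _ _ _ _ _ _ _ _ T hp =>
  have := Fact.mk T.prime
  @two_aux _ _ _ _ _ _ _ _ _ _ _ (AddCommGroup.zmodModule T.exp) T hp

end CL.Rk3L
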