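import Cfsg.Agent.R3.Defs
import Cfsg.Agent.Blk.IBrDec
import Cfsg.Agent.Blk.DefectNum

/-! S4881: the exponent of a primitive prime in the orbit lengths. -/

set_option autoImplicit false
set_option linter.unusedSectionVars false

open Cfsg CL.Perm CL.PT CL.Fgs

namespace CL.Rk3L

universe u

section U

open CL.Blk CL.Blk.Rk Polynomial

variable {G : Type*} [Group G] [Finite G] {r : ℕ} {M : Ideal AlgInt}

theorem ue_br (hM : IsPModular r M) {V : Type*} [AddCommGroup V] [Module (resField M) V]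
    [FiniteDimensional (resField M) V] (σ : Representation (resField M) G V) {w : G}
    (hw : IsPRegular r w) (h : σ w = 1) : br r σ w = Module.finrank (resField M) V := by
  have := charP_resField hM
  have h0 : ((orderOf w : ℕ) : resField M) ≠ 0 := fun e => hw ((CharP.cast_eq_zero_iff _ r _).1 e)
  have hp := orderOf_pos w
  rw [br_of_reg σ hw, h, Finset.sum_eq_single_of_mem 1 (by simp [mem_nthRootsFinset hp])]
  · simp [eigE, red_one, ← Nat.cast_smul_eq_nsmul (resField M), smul_smul, h0, rk_one]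
  · intro c hc h1
    have h2 := (mem_nthRootsFinset hp _).1 hc
    have h3 : red M c ^ orderOf w = 1 := by
      rw [← red_pow (mem_valRing_of_pow_eq_one hp.ne' h2), h2, red_one]
    have h4 := smul_mul_eigE h3 (one_pow (M := Module.End (resField M) V) _)
    rw [smul_mul_assoc, one_mul, ← sub_eq_zero, ← one_smul (resField M) (eigE _ _ _), smul_smul,
      ← sub_smul, smul_eq_zero, mul_one, sub_eq_zero] at h4
    rw [h4.resolve_left fun e => h1 (eq_one_of_red_eq_one hM hw h2 e), rk_zero, Nat.cast_zero, mul_zero]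

/-- An `r`-element of a linear group of degree at most `r ^ b` has its `r ^ b`-th power in `O_r`. -/
theorem ue_U (hr : r.Prime) {χ : G → ℂ} (hχ : IsCharacter G χ) (hf : ∀ g, χ g = χ 1 → g = 1) {b e : ℕ}
    (hb : charDegree χ ≤ r ^ b) {y : G} (hy : y ^ r ^ e = 1) : y ^ r ^ b ∈ pCore r G := by
  have := Fact.mk hr
  obtain ⟨M, hM⟩ := exists_isPModular' hr
  have := charP_resField hM
  let L : Subgroup G := ⨅ j : {j : Sim M G // dec χ j ≠ 0}, MonoidHom.ker j.1.rep
  have hL : ∀ g, g ∈ L ↔ ∀ j : Sim M G, dec χ j ≠ 0 → j.rep g = 1 := fun g => by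
    simp only [L, Subgroup.mem_iInf, Subtype.forall, MonoidHom.mem_ker]
  have : L.Normal := Subgroup.normal_iInf_normal fun _ => inferInstance
  refine CL.Grp.le_pCore (N := L) (IsPGroup.iff_card.2 ⟨_, Nat.eq_prime_pow_of_unique_prime_dvd
    Nat.card_pos.ne' fun {s} hs hd => by_contra fun hne => ?_⟩) ((hL _).2 fun j hj => ?_)
  · obtain ⟨w, hw, ho⟩ := exists_order hs hd
    have h1 : IsPRegular r w := fun e => hne ((Nat.prime_dvd_prime_iff_eq hr hs).1 (ho ▸ e)).symm
    have h2 := congrFun (pReg_eq_sum_dec hM hχ) w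
    rw [pReg_of_reg h1, Finset.sum_apply] at h2
    rw [hf w (h2.trans (Eq.trans (Finset.sum_congr rfl fun j _ => ?_)
      (apply_one_eq_sum_dec hM hχ).symm)), orderOf_one] at ho
    · exact hs.one_lt.ne ho
    by_cases hj : dec χ j = 0
    · simp [hj]
    · rw [Pi.smul_apply, smul_eq_mul, Sim.ibr, ue_br hM _ h1 ((hL w).1 hw j hj), Module.finrank_fin_fun]
  · have h1 : j.dim ≤ r ^ b := by
      refine le_trans ?_ hb
      rw [charDegree_eq_sum_dec hM hχ]
      exact (Nat.le_mul_of_pos_left _ (Nat.pos_of_ne_zero hj)).trans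
        (Finset.single_le_sum (f := fun j : Sim M G => dec χ j * j.dim) (fun _ _ => Nat.zero_le _)
          (Finset.mem_univ j))
    have : Nonempty (Fin j.dim) := ⟨⟨0, j.dim_pos⟩⟩
    have : CharP (Module.End (resField M) (Fin j.dim → resField M)) r :=
      charP_of_injective_algebraMap (algebraMap (resField M) _).injective r
    have h2 : IsNilpotent (j.rep y - 1) := ⟨r ^ e, by
      rw [sub_pow_char_pow_of_commute _ _ (Commute.one_right _), ← map_pow, hy, map_one, one_pow,
        sub_self]⟩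
    have h3 := LinearMap.aeval_self_charpoly (j.rep y - 1)
    rw [h2.charpoly_eq_X_pow_finrank, map_pow, aeval_X, Module.finrank_fin_fun] at h3
    have h4 := pow_eq_zero_of_le h1 h3
    rwa [sub_pow_char_pow_of_commute _ _ (Commute.one_right _), ← map_pow, one_pow, sub_eq_zero] at h4

end U

variable {G V : Type u} [Group G] [Finite G] [AddCommGroup V] [Finite V]
  {ρ : G →* AddMonoid.End V} {p n m r : ℕ}

theorem ue_cyc [Nontrivial V] (T : Lin ρ p n) (hr : PPD p m r) (h2 : r ≠ 2) (hn : n ≤ 2 * m)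
    (hG : IsPGroup r G) (hI : Irr ρ ⊤) : IsCyclic G := by
  have := Fact.mk hr.1
  have := Fact.mk T.prime
  rcases subsingleton_or_nontrivial G with _ | _
  · infer_instance
  have := hG.center_nontrivial
  have h1 : ∀ x ∈ Subring.closure (ρ '' Subgroup.center G), ∀ g, Commute (ρ g) x := fun x hx g => by
    induction hx using Subring.closure_induction with
    | mem x hx =>
      obtain ⟨a, ha, rfl⟩ := hx
      exact Commute.map (Subgroup.mem_center_iff.1 ha g) ρ
    | zero => exact Commute.zero_right _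
    | one => exact Commute.one_right _
    | add x y _ _ hx hy => exact hx.add_right hy
    | neg x _ hx => exact hx.neg_right
    | mul x y _ _ hx hy => exact hx.mul_right hy
  obtain ⟨K, _, _, _, ι, σ, k, D, hK, hk, hc⟩ := T.exists_semi (Subgroup.center G) fun x hx v hv h0 => by
    rcases hI (AddMonoidHom.ker (x : V →+ V)) fun g _ w hw => by
      change (x * ρ g) w = 0
      rw [← (h1 x hx g).eq]
      change ρ g (x w) = 0
      rw [show x w = 0 from hw, map_zero] with e | e
    · exact absurd (AddSubgroup.mem_bot.1 (e ▸ h0 : v ∈ (⊥ : AddSubgroup V))) hv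
    · exact AddMonoidHom.ext fun w => (e ▸ AddSubgroup.mem_top w : w ∈ AddMonoidHom.ker (x : V →+ V))
  obtain ⟨j, hj, e⟩ := (hG.to_subgroup (Subgroup.center G)).nontrivial_iff_card.1 inferInstance
  have h3 : m ≤ k := by
    by_contra h3
    refine hr.2.2 k (Nat.pos_of_ne_zero ?_) (by omega)
      ((e ▸ dvd_pow_self r hj.ne').trans (hK ▸ D.card_dvd))
    rintro rfl
    exact Finite.one_lt_card.ne' hK
  have h4 : 1 ≤ k := Nat.pos_of_ne_zero (by rintro rfl; exact Finite.one_lt_card.ne' hK)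
  obtain ⟨B, hB, -, h5⟩ := T.cent_le_two D (by
    by_contra h5
    have := Nat.mul_le_mul_left k (show 3 ≤ Module.finrank K V by omega)
    omega)
  obtain ⟨i, hi⟩ := (hG.to_subgroup σ.ker).index B
  have h6 : Odd B.index := hi ▸ (hr.1.odd_of_ne_two h2).pow
  have h7 : B = ⊤ := Subgroup.index_eq_one.1 (by
    obtain ⟨c, hc⟩ := h6
    rcases h5 with h5 | h5 | h5 | h5
    · have := Nat.le_of_dvd two_pos h5
      omega
    all_goals omega)
  have h8 : ∀ g, g ∈ σ.ker := fun g => by
    rw [D.ker_eq]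
    exact fun a ha => (Subgroup.mem_center_iff.1 ha g).symm
  have h9 : Subgroup.center G = ⊤ := eq_top_iff.2 fun a _ => Subgroup.mem_center_iff.2 fun g =>
    congrArg Subtype.val (setLike_mul_comm (s := B) (a := ⟨g, h8 g⟩) (b := ⟨a, h8 a⟩)
      (h7 ▸ Subgroup.mem_top _) (h7 ▸ Subgroup.mem_top _))
  have := D.isCyclic
  exact isCyclic_of_surjective (Subgroup.center G).subtype fun g => ⟨⟨g, h9 ▸ Subgroup.mem_top g⟩, rfl⟩

theorem ue_E (T : Lin ρ p n) (hr : PPD p m r) (h2 : r ≠ 2) (h1 : 1 ≤ n) (hn : n ≤ 2 * m) {R : Subgroup G}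
    (hR : IsPGroup r R) {c : ℕ} (hc : ∀ y ∈ R, y ^ c = 1) : ∃ v, v ≠ 0 ∧ (stab ρ v).relIndex R ∣ c := by
  have : Nontrivial V := by
    rw [← Finite.one_lt_card_iff_nontrivial, T.card]
    exact Nat.one_lt_pow (by omega) T.prime.one_lt
  obtain ⟨W, ⟨h3, h4⟩, h5⟩ := (wellFounded_lt (α := AddSubgroup V)).has_min
    {W | W ≠ ⊥ ∧ ∀ g ∈ R, ∀ v ∈ W, ρ g v ∈ W} ⟨⊤, top_ne_bot, fun _ _ _ _ => trivial⟩
  obtain ⟨j, hj, e⟩ := exists_card_eq T.prime T.card W
  have := (AddSubgroup.nontrivial_iff_ne_bot W).2 h3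
  have := ue_cyc (T.res h4 e) hr h2 (hj.trans hn) (hR.to_quotient _) fun U hU => by
    refine or_iff_not_imp_left.2 fun h6 => ?_
    have h7 := h5 (U.map W.subtype) ⟨fun e => h6 ((AddSubgroup.map_eq_bot_iff_of_injective _
      Subtype.val_injective).1 e), by
        rintro g hg _ ⟨v, hv, rfl⟩
        exact ⟨_, hU ((⟨g, hg⟩ : R) : R ⧸ _) trivial v hv, rfl⟩⟩
    have h8 : U.map W.subtype = W := ((AddSubgroup.map_subtype_le U).lt_or_eq).resolve_left h7
    refine eq_top_iff.2 fun v _ => ?_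
    obtain ⟨u, hu, e⟩ : (v : V) ∈ U.map W.subtype := h8.symm ▸ v.2
    exact (Subtype.ext e : u = v) ▸ hu
  obtain ⟨v, hv⟩ := exists_ne (0 : W)
  refine ⟨v, fun e => hv (Subtype.ext e), (Subgroup.index_dvd_of_le
    (H := (resRep ρ R W h4).ker) fun g hg => ?_).trans ?_⟩
  · exact congrArg Subtype.val (DFunLike.congr_fun hg v)
  · rw [Subgroup.index_eq_card, ← IsCyclic.exponent_eq_card]
    refine Monoid.exponent_dvd_of_forall_pow_eq_one fun g => ?_
    obtain ⟨g, rfl⟩ := QuotientGroup.mk_surjective g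
    rw [← QuotientGroup.mk_pow, show g ^ c = 1 from Subtype.ext (hc g g.2), QuotientGroup.mk_one]

theorem ue : UE.{u} := by
  intro G V _ _ _ _ ρ p n m r e b T hr h2 h1 hn h0 hb he
  have := Fact.mk hr.1
  obtain ⟨χ, hχ, hf, hd⟩ := T.exists_char
  obtain ⟨R⟩ : Nonempty (Sylow r G) := inferInstance
  obtain ⟨v, hv, h3⟩ := ue_E T hr h2 h1 hn R.isPGroup' (c := r ^ b) fun y hy => by
    obtain ⟨k, hk⟩ := R.isPGroup' ⟨y, hy⟩
    exact Subgroup.mem_bot.1 (h0 ▸ ue_U hr.1 hχ hf (hd ▸ hb) (congrArg Subtype.val hk))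
  obtain ⟨i, hi⟩ := IsPGroup.iff_card.1 (R.isPGroup'.to_subgroup ((stab ρ v).subgroupOf R))
  have h4 : r ^ (e + i) ∣ Nat.card G := by
    rw [pow_add, ← ncard_orb_mul ρ v, ← hi, ← Subgroup.inf_subgroupOf_right,
      Nat.card_congr (Subgroup.subgroupOfEquivOfLe inf_le_right).toEquiv]
    exact mul_dvd_mul (he v hv) (Subgroup.card_dvd_of_le inf_le_left)
  have h5 := R.pow_dvd_card_of_pow_dvd_card h4
  rw [← ((stab ρ v).subgroupOf R).index_mul_card, hi, pow_add] at h5
  exact (Nat.pow_dvd_pow_iff_le_right hr.1.one_lt).1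
    ((Nat.dvd_of_mul_dvd_mul_right (pow_pos hr.1.pos i) h5).trans h3)

end CL.Rk3L
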